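import Groth.Agent.AlgSpEt.Chart
import Groth.Agent.EtaleBase.Stalks
import Mathlib.CategoryTheory.Sites.Point.Skyscraper
import Mathlib.CategoryTheory.Abelian.GrothendieckAxioms.Types

/-!
# Stalks on the small etale site of an algebraic space
-/

set_option autoImplicit false
set_option backward.isDefEq.respectTransparency false

universe v' u' u

open CategoryTheory CategoryTheory.Limits AlgebraicGeometry Opposite AlgSp Groth.AlgSpBasic

namespace Groth.AlgSpEt

instance forgetType_preservesSmallFilteredColimits :
    PreservesFilteredColimitsOfSize.{u, u} (forget (Type (u + 1))) :=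
  preservesFilteredColimitsOfSize_of_univLE.{u + 1, u + 1, u, u} _

instance ab5OfSize_type : AB5OfSize.{u, u} (Type (u + 1)) :=
  AB5OfSize_shrink.{u, u, u + 1, u + 1} _

variable {S : Scheme.{u}}

/-- A geometric point through an object of the site. -/
theorem exists_geometric_lift_aux {X : Sp S} (E : EtOver X) (K : Type u) [Field K] [IsAlgClosed K]
    (ι : Spec (CommRingCat.of K) ⟶ E.obj.left.left) :
    ∃ (p : FieldPt X) (w : (FieldPt.liftsTo p).obj E),
      p.IsGeometric ∧ w.1.left (ctr p) = ι default := by
  let w : Over.mk (ι ≫ E.obj.left.hom) ⟶ E.obj.left := Over.homMk ι rfl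
  exact ⟨{ K := K
           str := ι ≫ E.obj.left.hom
           val := (J S).uliftYonedaEquiv ((yon S).map w ≫ E.obj.hom) },
    ⟨w, ((J S).uliftYonedaEquiv.symm_apply_apply _).symm⟩, ‹IsAlgClosed K›, rfl⟩

/-- A geometric point through a field-valued point of an object of the site. -/
theorem exists_geometric_lift_of_field {X : Sp S} (E : EtOver X) (k : Type u) [Field k]
    (j : Spec (CommRingCat.of k) ⟶ E.obj.left.left) :
    ∃ (p : FieldPt X) (w : (FieldPt.liftsTo p).obj E),
      p.IsGeometric ∧ w.1.left (ctr p) = j default := by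
  obtain ⟨p, w, hp, hw⟩ := exists_geometric_lift_aux E (AlgebraicClosure k)
    (Spec.map (CommRingCat.ofHom (algebraMap k (AlgebraicClosure k))) ≫ j)
  refine ⟨p, w, hp, hw.trans ?_⟩
  exact congrArg j.base (Subsingleton.elim _ _)

/-- Every point of a chart carries a geometric point of the space with a lift there. -/
theorem exists_geometric_lift {X : Sp S} (E : EtOver X) (e : ↥E.obj.left.left) :
    ∃ (p : FieldPt X) (w : (FieldPt.liftsTo p).obj E),
      p.IsGeometric ∧ w.1.left (ctr p) = e := by
  obtain ⟨p, w, hp, hw⟩ := exists_geometric_lift_of_field E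
    (E.obj.left.left.residueField e) (E.obj.left.left.fromSpecResidueField e)
  exact ⟨p, w, hp, hw.trans (Scheme.fromSpecResidueField_apply _ _)⟩

variable (X : Space S)

/-- A sheaf map that is injective on all geometric stalks is injective on sections. -/
theorem injective_app_of_stalks {F G : EtSh X.obj (Type (u + 1))} (a : F ⟶ G)
    (h : ∀ p : FieldPt X.obj, p.IsGeometric → Function.Injective ((stalkEtFunctor (Type (u + 1)) p).map a))
    (E : EtOver X.obj) : Function.Injective (a.hom.app (op E)) := by
  intro σ σ' hσ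
  let R : Sieve E :=
    { arrows := fun V g => F.obj.map g.op σ = F.obj.map g.op σ'
      downward_closed := fun {V W g} hg h => by simp [hg] }
  have hR : R ∈ etTop X.obj E := by
    have : ∀ e : ↥E.obj.left.left, ∃ (V : EtOver X.obj) (g : V ⟶ E), R g ∧ e ∈ Set.range g.hom.left.left := by
      intro e
      obtain ⟨p, w, hp, he⟩ := exists_geometric_lift E e
      let Φ := ptEt p X.property hp
      have h0 : Φ.toPresheafFiber E w F.obj σ = Φ.toPresheafFiber E w F.obj σ' := by
        refine h p hp ?_
        show Φ.presheafFiber.map a.hom _ = Φ.presheafFiber.map a.hom _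
        rw [Φ.toPresheafFiber_naturality_apply, Φ.toPresheafFiber_naturality_apply, hσ]
      obtain ⟨V, g, v, hv, heq⟩ := (Φ.toPresheafFiber_eq_iff' (P := F.obj) E w σ σ').1 h0
      refine ⟨V, g, heq, v.1.left (ctr p), ?_⟩
      rw [← he, ← hv]
      rfl
    choose V g hg hx using this
    exact (etTop X.obj).superset_covering
      ((Sieve.generate_le_iff _ _).2 ((Presieve.ofArrows_le_iff).2 hg))
      (ofArrows_mem_etTop V g fun e => ⟨e, hx e⟩)
  exact (((isSheaf_iff_isSheaf_of_type _ _).1 F.2).isSeparated _ hR).ext fun V g hg => hg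

/-- A presheaf map that is surjective on all geometric stalks is locally surjective. -/
theorem isLocallySurjective_of_presheafFiber {A : Type u'} [Category.{v'} A] [HasColimitsOfSize.{u, u} A]
    {FC : A → A → Type*} {CC : A → Type (u + 1)} [∀ (X Y : A), FunLike (FC X Y) (CC X) (CC Y)]
    [ConcreteCategory.{u + 1} A FC] [PreservesFilteredColimitsOfSize.{u, u} (forget A)]
    {P Q : (EtOver X.obj)ᵒᵖ ⥤ A} (a : P ⟶ Q)
    (h : ∀ (p : FieldPt X.obj) (hp : p.IsGeometric),
      Function.Surjective ((ptEt p X.property hp).presheafFiber.map a)) :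
    Presheaf.IsLocallySurjective (etTop X.obj) a := by
  constructor
  intro E σ
  have : ∀ e : ↥E.obj.left.left, ∃ (V : EtOver X.obj) (g : V ⟶ E),
      Presheaf.imageSieve a σ g ∧ e ∈ Set.range g.hom.left.left := by
    intro e
    obtain ⟨p, w, hp, he⟩ := exists_geometric_lift E e
    let Φ := ptEt p X.property hp
    obtain ⟨y, hy⟩ := h p hp (Φ.toPresheafFiber E w Q σ)
    obtain ⟨V, s, τ, rfl⟩ := Φ.toPresheafFiber_jointly_surjective (P := P) y
    have hy' : Φ.presheafFiber.map a (Φ.toPresheafFiber V s P τ) = Φ.toPresheafFiber E w Q σ := hy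
    rw [Φ.toPresheafFiber_naturality_apply] at hy'
    obtain ⟨⟨W, z⟩, pm, qm, -⟩ := IsCofilteredOrEmpty.cone_objs (C := Φ.fiber.Elements)
      (Functor.elementsMk _ V s) (Functor.elementsMk _ E w)
    let k : W ⟶ V := pm.1
    let l : W ⟶ E := qm.1
    have key : Φ.toPresheafFiber W z Q (a.app _ (P.map k.op τ)) =
        Φ.toPresheafFiber W z Q (Q.map l.op σ) := by
      rw [NatTrans.naturality_apply a k.op τ, Φ.toPresheafFiber_w_apply, Φ.toPresheafFiber_w_apply]
      erw [pm.2, qm.2]
      exact hy'
    obtain ⟨Z, r, v, hv, heq⟩ := (Φ.toPresheafFiber_eq_iff' (P := Q) W z _ _).1 key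
    refine ⟨Z, r ≫ l, ⟨P.map r.op (P.map k.op τ), ?_⟩, v.1.left (ctr p), ?_⟩
    · rw [NatTrans.naturality_apply a r.op, heq, op_comp, Functor.map_comp]
      exact (ConcreteCategory.comp_apply _ _ _).symm
    · subst hv
      rw [← he, ← show Φ.fiber.map l _ = w from qm.2]
      rfl
  choose V g hg hx using this
  exact (etTop X.obj).superset_covering
    ((Sieve.generate_le_iff _ _).2 ((Presieve.ofArrows_le_iff).2 hg))
    (ofArrows_mem_etTop V g fun e => ⟨e, hx e⟩)

/-- A sheaf map that is surjective on all geometric stalks is locally surjective. -/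
theorem isLocallySurjective_of_stalks {F G : EtSh X.obj (Type (u + 1))} (a : F ⟶ G)
    (h : ∀ p : FieldPt X.obj, p.IsGeometric → Function.Surjective ((stalkEtFunctor (Type (u + 1)) p).map a)) :
    Sheaf.IsLocallySurjective a :=
  isLocallySurjective_of_presheafFiber X a.hom fun p hp => h p hp

end Groth.AlgSpEt
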