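import Groth.Agent.AlgSpEt.StalkRing
import Groth.Agent.AlgSpEt.Stalks
import Groth.Agent.Hensel1.Regular
import Groth.Agent.Hensel1.Reduced
import Mathlib.RingTheory.Ideal.MinimalPrime.Localization

/-!
# Local properties read on etale local rings of algebraic spaces
-/

set_option autoImplicit false
set_option backward.isDefEq.respectTransparency false

universe v u

open CategoryTheory CategoryTheory.Limits AlgebraicGeometry AlgSp Groth.AlgSpBasic

namespace Groth.AlgSpEt

section Equiv

variable {R : Type u} {S' : Type v} [CommRing R] [CommRing S']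

theorem encard_minimalPrimes_ringEquiv (e : R ≃+* S') :
    (minimalPrimes R).encard = (minimalPrimes S').encard := by
  have h := Ideal.comap_minimalPrimes_eq_of_surjective (f := e.toRingHom) e.surjective (⊥ : Ideal S')
  have h0 : Ideal.comap e.toRingHom (⊥ : Ideal S') = ⊥ := by
    rw [← RingHom.ker_eq_comap_bot]
    exact (RingHom.injective_iff_ker_eq_bot _).1 e.injective
  rw [h0] at h
  show (Ideal.minimalPrimes ⊥).encard = _
  rw [h, ((Ideal.comap_injective_of_surjective e.toRingHom e.surjective).injOn).encard_image]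

theorem isStrictlyHenselian_ringEquiv (e : R ≃+* S') (h : EtCoh.IsStrictlyHenselianLocalRing R) :
    EtCoh.IsStrictlyHenselianLocalRing S' := by
  obtain ⟨hR, hk⟩ := h
  have : IsLocalRing S' := e.isLocalRing
  have hS : HenselianLocalRing S' := by
    refine { is_henselian := fun f hf a₀ h1 h2 => ?_ }
    have hev : ∀ (g : Polynomial S') (a : S'),
        (g.map e.symm.toRingHom).eval (e.symm a) = e.symm (g.eval a) := fun g a => by
      rw [Polynomial.eval_map]
      exact Polynomial.eval₂_at_apply e.symm.toRingHom a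
    obtain ⟨a, ha, ha'⟩ := HenselianLocalRing.is_henselian (f.map e.symm.toRingHom) (hf.map _)
      (e.symm a₀) (by rw [hev, IsLocalRing.mem_maximalIdeal]; exact fun hu => h1 (by simpa using hu.map e))
      (by rw [Polynomial.derivative_map, hev]; exact h2.map e.symm)
    refine ⟨e a, ?_, ?_⟩
    · have h3 := hev f (e a)
      rw [e.symm_apply_apply, ha.eq_zero] at h3
      exact e.symm.injective (by rw [map_zero]; exact h3.symm)
    · rw [IsLocalRing.mem_maximalIdeal] at ha' ⊢
      exact fun hu => ha' (by simpa using hu.map e.symm)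
  refine ⟨hS, IsSepClosed.of_exists_root _ fun p hp hirr hsep => ?_⟩
  let ek := IsLocalRing.ResidueField.mapEquiv e
  obtain ⟨x, hx⟩ := IsSepClosed.exists_root (p.map ek.symm.toRingHom)
    (by rw [Polynomial.degree_map_eq_of_injective (f := ek.symm.toRingHom) ek.symm.injective]
        exact (Polynomial.degree_pos_of_irreducible hirr).ne')
    hsep.map
  refine ⟨ek x, ek.symm.injective ?_⟩
  rw [map_zero]
  rw [Polynomial.IsRoot, Polynomial.eval_map] at hx
  rw [← hx]
  conv_rhs => rw [← ek.symm_apply_apply x]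
  exact (Polynomial.eval₂_at_apply ek.symm.toRingHom (ek x)).symm

theorem isReduced_iff_of_ringEquiv (e : R ≃+* S') : IsReduced R ↔ IsReduced S' :=
  ⟨fun _ => isReduced_of_injective e.symm e.symm.injective, fun _ => isReduced_of_injective e e.injective⟩

theorem isRegularLocalRing_iff_of_ringEquiv (e : R ≃+* S') :
    IsRegularLocalRing R ↔ IsRegularLocalRing S' :=
  ⟨fun _ => IsRegularLocalRing.of_ringEquiv e, fun _ => IsRegularLocalRing.of_ringEquiv e.symm⟩

end Equiv

variable {S : Scheme.{u}} {X : Sp S}

/-- The etale local ring at a geometric point is a strict henselization of the local ring of any chart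
at a point over it. -/
theorem exists_strictHenselization {p : FieldPt X} (hp : p.IsGeometric) {U : Over S}
    {a : (yon S).obj U ⟶ X} (ha : RepWith @Etale a) (u : ↥U.left) (hu : Points.ofPt a u = Points.mk p) :
    ∃ (T : Type u) (_ : CommRing T) (_ : IsLocalRing T) (_ : Algebra (U.left.presheaf.stalk u) T)
      (_ : IsLocalHom (algebraMap (U.left.presheaf.stalk u) T)),
      Hensel.IsStrictHenselization (U.left.presheaf.stalk u) T ∧ Nonempty (T ≃+* ↥(OEtStalk p)) := by
  have : IsAlgClosed p.K := hp
  obtain ⟨t, ht, rfl⟩ := exists_lift hp a ha u hu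
  obtain ⟨hloc, hs⟩ := StrictHens.isStrictHenselization (chartPt p t)
  exact ⟨_, inferInstance, inferInstance, (StrictLocal.toEtale (chartPt p t)).hom.toAlgebra, hloc, hs,
    nonempty_OEtStalk_equiv p ha t ht⟩

/-- Every point carries a geometric point. -/
theorem exists_geometric_point (hX : IsAlgSpace X) (x : Points X) :
    ∃ p : FieldPt X, p.IsGeometric ∧ Points.mk p = x := by
  obtain ⟨U, a, ha, has⟩ := hX.atlas
  obtain ⟨u, rfl⟩ := surjective_ofPt_of_repWith has x
  obtain ⟨p, ⟨w, hw'⟩, hp, hw⟩ := exists_geometric_lift (EtOver.mk a ha) u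
  refine ⟨p, hp, ?_⟩
  rw [← Points.ofPt_toHom p (ctr p), ← hw', ofPt_comp_yon]
  exact congrArg (Points.ofPt a) hw

/-- The etale local ring at a geometric point is strictly henselian. -/
theorem isStrictlyHenselian_OEtStalk (hX : IsAlgSpace X) {p : FieldPt X} (hp : p.IsGeometric) :
    IsLocalRing ↥(OEtStalk p) ∧ EtCoh.IsStrictlyHenselianLocalRing ↥(OEtStalk p) := by
  obtain ⟨U, a, ha, has⟩ := hX.atlas
  obtain ⟨u, hu⟩ := surjective_ofPt_of_repWith has (Points.mk p)
  obtain ⟨T, _, _, _, _, hT, ⟨e⟩⟩ := exists_strictHenselization hp ha u hu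
  have := hT.henselian
  exact ⟨e.isLocalRing, isStrictlyHenselian_ringEquiv e ⟨hT.henselian, hT.isSepClosure.sep_closed⟩⟩

theorem isReduced_stalk_iff {p : FieldPt X} (hp : p.IsGeometric) {U : Over S}
    {a : (yon S).obj U ⟶ X} (ha : RepWith @Etale a) (u : ↥U.left) (hu : Points.ofPt a u = Points.mk p) :
    _root_.IsReduced (U.left.presheaf.stalk u) ↔ _root_.IsReduced ↥(OEtStalk p) := by
  obtain ⟨T, _, _, _, _, hT, ⟨e⟩⟩ := exists_strictHenselization hp ha u hu
  obtain ⟨M⟩ := Groth.Hensel1.hensModel_of_isStrictHenselization (R := U.left.presheaf.stalk u) (S := T)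
  exact M.isReduced_iff.trans (isReduced_iff_of_ringEquiv e)

theorem ringKrullDim_stalk_eq {p : FieldPt X} (hp : p.IsGeometric) {U : Over S}
    {a : (yon S).obj U ⟶ X} (ha : RepWith @Etale a) (u : ↥U.left) (hu : Points.ofPt a u = Points.mk p) :
    ringKrullDim (U.left.presheaf.stalk u) = ringKrullDim ↥(OEtStalk p) := by
  obtain ⟨T, _, _, _, _, hT, ⟨e⟩⟩ := exists_strictHenselization hp ha u hu
  obtain ⟨M⟩ := Groth.Hensel1.hensModel_of_isStrictHenselization (R := U.left.presheaf.stalk u) (S := T)
  exact M.ringKrullDim_eq.symm.trans (ringKrullDim_eq_of_ringEquiv e)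

theorem isRegularLocalRing_stalk_iff {p : FieldPt X} (hp : p.IsGeometric) {U : Over S}
    {a : (yon S).obj U ⟶ X} (ha : RepWith @Etale a) (u : ↥U.left) (hu : Points.ofPt a u = Points.mk p) :
    IsRegularLocalRing (U.left.presheaf.stalk u) ↔ IsRegularLocalRing ↥(OEtStalk p) := by
  obtain ⟨T, _, _, _, _, hT, ⟨e⟩⟩ := exists_strictHenselization hp ha u hu
  obtain ⟨M⟩ := Groth.Hensel1.hensModel_of_isStrictHenselization (R := U.left.presheaf.stalk u) (S := T)
  rw [← isRegularLocalRing_iff_of_ringEquiv e]
  constructor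
  · intro h
    exact M.isRegularLocalRing_iff.1 h
  · intro h
    have := M.isNoetherianRing_iff.2 inferInstance
    exact M.isRegularLocalRing_iff.2 h

end Groth.AlgSpEt
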