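import Groth.Prelude.Def_AlgSpOX3
import Groth.Agent.AlgSpBasic.AlgSpace
import Groth.Agent.AlgSpBasic.Points
import Mathlib.AlgebraicGeometry.Sites.EtalePoint

/-!
# Etale neighbourhoods of a geometric point of an algebraic space
-/

set_option autoImplicit false
set_option backward.isDefEq.respectTransparency false

universe u

open CategoryTheory CategoryTheory.Limits AlgebraicGeometry Opposite AlgSp Groth.AlgSpBasic

namespace Groth.AlgSpEt

variable {S : Scheme.{u}} {X : Sp S}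

/-- The unique point of the spectrum of the field of a field-valued point. -/
noncomputable abbrev ctr (p : FieldPt X) : ↥p.pt.left := (default : ↥(Spec (CommRingCat.of p.K)))

/-- A geometric point lifts to a representable etale chart at every point over it. -/
theorem exists_lift {p : FieldPt X} (hp : p.IsGeometric) {U : Over S} (a : (yon S).obj U ⟶ X)
    (ha : RepWith @Etale a) (u : ↥U.left) (hu : Points.ofPt a u = Points.mk p) :
    ∃ t : p.pt ⟶ U, (yon S).map t ≫ a = p.toHom ∧ t.left (ctr p) = u := by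
  have : IsAlgClosed p.K := hp
  obtain ⟨W, snd, fst, sq⟩ := ha.1 p.toHom
  obtain ⟨fst', rfl⟩ := (yon S).map_surjective fst
  have hsnd : Etale snd.left := ha.2 p.toHom _ snd sq
  obtain ⟨w, hw, -⟩ := (ofPt_eq_ofPt_iff sq u (default : Spec (CommRingCat.of p.K))).1
    (hu.trans (Points.ofPt_toHom p _).symm)
  obtain ⟨l, hl, hlw⟩ := Scheme.exists_fac_of_etale_of_isSepClosed snd.left
    (𝟙 (Spec (CommRingCat.of p.K))) w (Subsingleton.elim (α := ↥(Spec (CommRingCat.of p.K))) _ _)
  let l' : p.pt ⟶ W := Over.homMk l (by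
    show l ≫ W.hom = p.str
    rw [← Over.w snd, ← Category.assoc, hl]
    exact Category.id_comp _)
  have hl' : l' ≫ snd = 𝟙 _ := Over.OverMorphism.ext hl
  refine ⟨l' ≫ fst', ?_, ?_⟩
  · rw [Functor.map_comp, Category.assoc, sq.w, ← Category.assoc, ← Functor.map_comp, hl',
      CategoryTheory.Functor.map_id, Category.id_comp]
  · show fst'.left (l (ctr p)) = u
    rw [hlw, hw]

/-- A geometric point of an algebraic space lifts to some chart. -/
theorem exists_chart (hX : IsAlgSpace X) {p : FieldPt X} (hp : p.IsGeometric) :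
    ∃ (U : Over S) (a : (yon S).obj U ⟶ X) (t : p.pt ⟶ U),
      RepWith @Etale a ∧ (yon S).map t ≫ a = p.toHom := by
  obtain ⟨U, a, ha, has⟩ := hX.atlas
  obtain ⟨u, hu⟩ := surjective_ofPt_of_repWith has (Points.mk p)
  obtain ⟨t, ht, -⟩ := exists_lift hp a ha u hu
  exact ⟨U, a, t, ha, ht⟩

section Cofiltered

variable (p : FieldPt X)

/-- Binary products of etale neighbourhoods. -/
theorem exists_common (N₁ N₂ : EtNbhd p) : ∃ N : EtNbhd p, Nonempty (N ⟶ N₁) ∧ Nonempty (N ⟶ N₂) := by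
  obtain ⟨E₁, u₁⟩ := N₁
  obtain ⟨E₂, u₂⟩ := N₂
  let v : p.pt ⟶ (EtOver.prodObj E₁ E₂).obj.left :=
    E₂.property.1.lift' u₂.1 u₁.1 (u₂.2.trans u₁.2.symm)
  have hv : (yon S).map v ≫ (EtOver.prodObj E₁ E₂).obj.hom = p.toHom := by
    change (yon S).map v ≫ (yon S).map _ ≫ E₁.obj.hom = _
    rw [← Category.assoc, ← Functor.map_comp, Functor.relativelyRepresentable.lift'_snd]
    exact u₁.2
  exact ⟨(FieldPt.liftsTo p).elementsMk (EtOver.prodObj E₁ E₂) ⟨v, hv⟩,
    ⟨CategoryOfElements.homMk _ _ (EtOver.prodFst E₁ E₂)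
      (Subtype.ext (Functor.relativelyRepresentable.lift'_snd _ _ _ _))⟩,
    ⟨CategoryOfElements.homMk _ _ (EtOver.prodSnd E₁ E₂)
      (Subtype.ext (Functor.relativelyRepresentable.lift'_fst _ _ _ _))⟩⟩

/-- Two parallel maps of etale neighbourhoods are equalised. -/
theorem exists_equalizer {N N' : EtNbhd p} (g g' : N ⟶ N') :
    ∃ (M : EtNbhd p) (h : M ⟶ N), h ≫ g = h ≫ g' := by
  obtain ⟨E, u⟩ := N
  obtain ⟨E', u'⟩ := N'
  let π : EtOver.prodObj E E' ⟶ E := EtOver.prodFst E E'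
  let gr : ∀ _ : E ⟶ E', E ⟶ EtOver.prodObj E E' := fun k =>
    EtOver.homMk (E'.property.1.lift' k.hom.left (𝟙 _)
        (by rw [EtOver.w k, CategoryTheory.Functor.map_id, Category.id_comp]))
      (by
        change (yon S).map _ ≫ (yon S).map _ ≫ E.obj.hom = E.obj.hom
        rw [← Category.assoc, ← Functor.map_comp, Functor.relativelyRepresentable.lift'_snd,
          CategoryTheory.Functor.map_id, Category.id_comp])
  have h₁ : ∀ k, gr k ≫ π = 𝟙 E := fun k =>
    EtOver.hom_ext _ _ (Functor.relativelyRepresentable.lift'_snd _ _ _ _)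
  have h₂ : ∀ k, gr k ≫ EtOver.prodSnd E E' = k := fun k =>
    EtOver.hom_ext _ _ (Functor.relativelyRepresentable.lift'_fst _ _ _ _)
  have he : EtOver.pullbackFst (gr g.1) (gr g'.1) ≫ g.1 = EtOver.pullbackFst (gr g.1) (gr g'.1) ≫ g'.1 := by
    have c := EtOver.pullback_condition (gr g.1) (gr g'.1)
    have c₁ := congrArg (· ≫ π) c
    simp only [Category.assoc, h₁, Category.comp_id] at c₁
    have c₂ := congrArg (· ≫ EtOver.prodSnd E E') c
    simp only [Category.assoc, h₂] at c₂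
    rwa [← c₁] at c₂
  have hu : u.1 ≫ (gr g.1).hom.left = u.1 ≫ (gr g'.1).hom.left := by
    have e₁ : ∀ k : E ⟶ E', (gr k).hom.left ≫ π.hom.left = 𝟙 _ := fun k =>
      congrArg (fun f => f.hom.left) (h₁ k)
    refine Functor.relativelyRepresentable.hom_ext' _ ?_ ?_
    · show (u.1 ≫ _) ≫ (EtOver.prodSnd E E').hom.left = (u.1 ≫ _) ≫ (EtOver.prodSnd E E').hom.left
      rw [Category.assoc, Category.assoc]
      exact (congrArg (fun f : E ⟶ E' => u.1 ≫ f.hom.left) (h₂ g.1)).trans
        ((congrArg Subtype.val (g.2.trans g'.2.symm)).trans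
          (congrArg (fun f : E ⟶ E' => u.1 ≫ f.hom.left) (h₂ g'.1)).symm)
    · show (u.1 ≫ _) ≫ π.hom.left = (u.1 ≫ _) ≫ π.hom.left
      rw [Category.assoc, Category.assoc, e₁, e₁]
  let v : p.pt ⟶ (EtOver.pullbackObj (gr g.1) (gr g'.1)).obj.left := pullback.lift u.1 u.1 hu
  have hv : (yon S).map v ≫ (EtOver.pullbackObj (gr g.1) (gr g'.1)).obj.hom = p.toHom := by
    change (yon S).map v ≫ (yon S).map _ ≫ E.obj.hom = _
    rw [← Category.assoc, ← Functor.map_comp, pullback.lift_fst]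
    exact u.2
  exact ⟨(FieldPt.liftsTo p).elementsMk _ ⟨v, hv⟩,
    CategoryOfElements.homMk _ _ (EtOver.pullbackFst (gr g.1) (gr g'.1))
      (Subtype.ext (pullback.lift_fst _ _ _)), CategoryOfElements.ext _ _ _ he⟩

/-- The etale neighbourhoods of a geometric point of an algebraic space form a cofiltered category. -/
theorem isCofiltered_etNbhd (hX : IsAlgSpace X) (hp : p.IsGeometric) : IsCofiltered (EtNbhd p) where
  cone_objs N₁ N₂ := by
    obtain ⟨N, ⟨a⟩, ⟨b⟩⟩ := exists_common p N₁ N₂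
    exact ⟨N, a, b, trivial⟩
  cone_maps {N N'} g g' := by
    obtain ⟨M, h, e⟩ := exists_equalizer p g g'
    exact ⟨M, h, e⟩
  nonempty := by
    obtain ⟨U, a, t, ha, ht⟩ := exists_chart hX hp
    exact ⟨(FieldPt.liftsTo p).elementsMk (EtOver.mk a ha) ⟨t, ht⟩⟩

/-- A geometric point lifts along coverings. -/
theorem exists_lift_of_mem_etPre (hp : p.IsGeometric) (N : EtNbhd p) {ι : Type*} (Ui : ι → EtOver X)
    (g : ∀ i, Ui i ⟶ N.1) (hcov : Presieve.ofArrows Ui g ∈ etPre X N.1) :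
    ∃ (i : ι) (ui : (FieldPt.liftsTo p).obj (Ui i)), (FieldPt.liftsTo p).map (g i) ui = N.2 := by
  have : IsAlgClosed p.K := hp
  obtain ⟨i, y, hy⟩ := (ofArrows_mem_etPre_iff Ui g).1 hcov (N.2.1.left (ctr p))
  have := EtOver.etale_left (g i)
  obtain ⟨l, hl, -⟩ := Scheme.exists_fac_of_etale_of_isSepClosed (g i).hom.left.left N.2.1.left y hy
  let l' : p.pt ⟶ (Ui i).obj.left := Over.homMk l (by
    show l ≫ (Ui i).obj.left.hom = p.str
    rw [← Over.w (g i).hom.left, ← Category.assoc, hl]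
    exact Over.w N.2.1)
  have hl' : l' ≫ (g i).hom.left = N.2.1 := Over.OverMorphism.ext hl
  refine ⟨i, ⟨l', ?_⟩, Subtype.ext hl'⟩
  rw [← EtOver.w (g i), ← Category.assoc, ← Functor.map_comp, hl']
  exact N.2.2

end Cofiltered

end Groth.AlgSpEt
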