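import Groth.Agent.EtaleLift.Restriction
import Groth.Agent.AlgSp2.InfGlue
import Groth.Agent.AlgSp2.AffineRows
import Groth.Agent.AlgSpBasic.Univ
import Groth.Agent.AlgSpBasic.Unramified
import Groth.Agent.AlgSpBasic.Quotient

/-!
# Topological invariance of etale algebraic spaces
-/

set_option autoImplicit false
set_option backward.isDefEq.respectTransparency false

universe u

open CategoryTheory CategoryTheory.Limits AlgebraicGeometry Opposite AlgSp Groth.AlgSpBasic

namespace Groth.AlgSpEt.UH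

variable {S : Scheme.{u}} {X Y : Sp S}

/-- Etale schemes lift along integral, universally injective, surjective morphisms over `S`. -/
theorem exists_lift_scheme {T' T W : Over S} (b : T' ⟶ T) [IsIntegralHom b.left]
    [UniversallyInjective b.left] [Surjective b.left] (w : W ⟶ T') [Etale w.left] :
    ∃ (W' : Over S) (l : W' ⟶ T) (m : W ⟶ W'),
      Etale l.left ∧ IsPullback ((yon S).map w) ((yon S).map m) ((yon S).map b) ((yon S).map l) := by
  obtain ⟨A, a, β, ha, sq⟩ := Groth.EtaleBase.TopInv.exists_lift_global (f := b.left) (g := w.left)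
    (fun u => Groth.EtaleLift.exists_local_lift w.left u)
  let W' : Over S := Over.mk (a ≫ T.hom)
  let l : W' ⟶ T := Over.homMk a rfl
  let m : W ⟶ W' := Over.homMk β (by
    show β ≫ a ≫ T.hom = W.hom
    rw [reassoc_of% sq.w, Over.w b, Over.w w])
  refine ⟨W', l, m, ha, IsPullback.map (yon S) ?_⟩
  exact IsPullback.of_map (Over.forget S) (Over.OverMorphism.ext sq.w.symm) sq.flip

variable {V : Sp S}

/-- Maps to a space etale over `Y` that agree on a surjective test scheme are equal. -/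
theorem ext_unique (hV : IsAlgSpace V) (hY : IsAlgSpace Y) {a : V ⟶ Y} (ha : IsEtaleMor a) {T T' : Over S}
    (b : T' ⟶ T) [Surjective b.left] {φ₁ φ₂ : (yon S).obj T ⟶ V} (h : φ₁ ≫ a = φ₂ ≫ a)
    (hb : (yon S).map b ≫ φ₁ = (yon S).map b ≫ φ₂) : φ₁ = φ₂ := by
  have hd := repWith_diagonal_of_unramified hV hY (locP_mono etale_le_unramified (locP_of_isEtaleMor ha))
  obtain ⟨E, j, e, sq⟩ := hd.rep (pullback.lift φ₁ φ₂ h)
  have : IsOpenImmersion j.left := hd.property _ e j sq
  obtain ⟨l, hl⟩ := (yon S).map_surjective (sq.lift ((yon S).map b ≫ φ₁) ((yon S).map b) (by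
    apply pullback.hom_ext <;> simp [hb]))
  have hlj : l ≫ j = b := (yon S).map_injective (by rw [Functor.map_comp, hl, sq.lift_snd])
  have : Surjective j.left := ⟨fun t => by
    obtain ⟨t', rfl⟩ := b.left.surjective t
    exact ⟨l.left t', congrArg (fun k : T' ⟶ T => k.left t') hlj⟩⟩
  have : IsIso j.left := (isIso_iff_isOpenImmersion_and_surjective _).2 ⟨inferInstance, this⟩
  have : IsIso ((Over.forget S).map j) := this
  have : IsIso j := isIso_of_reflects_iso j (Over.forget S)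
  have h₁ := sq.w =≫ pullback.fst a a
  have h₂ := sq.w =≫ pullback.snd a a
  simp only [Category.assoc, pullback.diagonal_fst, pullback.diagonal_snd, Category.comp_id,
    pullback.lift_fst, pullback.lift_snd] at h₁ h₂
  exact (cancel_epi ((yon S).map j)).1 (h₁.symm.trans h₂)

/-- Maps to a space etale over `Y` extend along integral, universally injective, surjective morphisms. -/
theorem ext_exists (hV : IsAlgSpace V) (hY : IsAlgSpace Y) {a : V ⟶ Y} (ha : IsEtaleMor a) {T T' : Over S}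
    (b : T' ⟶ T) [IsIntegralHom b.left] [UniversallyInjective b.left] [Surjective b.left]
    (y : (yon S).obj T ⟶ Y) (α : (yon S).obj T' ⟶ V) (h : α ≫ a = (yon S).map b ≫ y) :
    ∃ φ : (yon S).obj T ⟶ V, φ ≫ a = y ∧ (yon S).map b ≫ φ = α := by
  obtain ⟨U, p, hp, hps⟩ := hV.atlas
  obtain ⟨W, w₂, w₁, sqW⟩ := exists_pullback_yon hp.rep α
  have : Etale w₁.left := hp.property α _ w₁ sqW
  have : Surjective w₁.left := hps.property α _ w₁ sqW
  obtain ⟨W', l, m, hl, sq⟩ := exists_lift_scheme b w₁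
  have sqo := isPullback_left (isPullback_of_yon sq)
  have : UniversallyInjective m.left := MorphismProperty.of_isPullback sqo ‹UniversallyInjective b.left›
  have : IsIntegralHom m.left := MorphismProperty.of_isPullback sqo ‹IsIntegralHom b.left›
  have : Surjective m.left := MorphismProperty.of_isPullback sqo ‹Surjective b.left›
  have : Surjective l.left := ⟨fun t => by
    obtain ⟨t', rfl⟩ := b.left.surjective t
    obtain ⟨w, rfl⟩ := w₁.left.surjective t'
    exact ⟨m.left w, congrArg (fun k : W.left ⟶ T.left => k w) sqo.w.symm⟩⟩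
  -- extend the lift to the chart
  obtain ⟨Q, q₁, q₂, sqQ⟩ := exists_pullback_yon (ha p hp).rep ((yon S).map l ≫ y)
  have : Etale q₂.left := (ha p hp).property _ _ q₂ sqQ
  obtain ⟨σ, hσ⟩ := (yon S).map_surjective (sqQ.lift ((yon S).map w₂) ((yon S).map m) (by
    rw [reassoc_of% sqW.w, h, ← Category.assoc, ← Category.assoc, sq.w]))
  have hσ₂ : σ ≫ q₂ = m := (yon S).map_injective (by rw [Functor.map_comp, hσ, sqQ.lift_snd])
  obtain ⟨ψ₀, ⟨hψ₁, hψ₂⟩, -⟩ := Groth.Pi1Inv.existsUnique_extend m.left q₂.left (𝟙 W'.left) σ.left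
    (by rw [Category.comp_id]; exact congrArg (fun k : W ⟶ W' => k.left) hσ₂)
  let ψ : W' ⟶ Q := Over.homMk ψ₀ (by rw [← Over.w q₂, reassoc_of% hψ₁])
  have hψq : ψ ≫ q₂ = 𝟙 W' := Over.OverMorphism.ext hψ₁
  have hmψ : m ≫ ψ = σ := Over.OverMorphism.ext hψ₂
  let χ : (yon S).obj W' ⟶ V := (yon S).map (ψ ≫ q₁) ≫ p
  have hχy : χ ≫ a = (yon S).map l ≫ y := by
    simp only [χ, Functor.map_comp, Category.assoc]
    rw [sqQ.w, ← (yon S).map_comp_assoc, hψq, CategoryTheory.Functor.map_id, Category.id_comp]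
  have hmχ : (yon S).map m ≫ χ = (yon S).map w₁ ≫ α := by
    simp only [χ]
    rw [← (yon S).map_comp_assoc, ← Category.assoc m ψ, hmψ, Functor.map_comp, hσ, sqQ.lift_fst]
    exact sqW.w
  obtain ⟨φ, hφ⟩ := Groth.AlgSp2.exists_glue_of_fppf l χ fun Z p' q' e => by
    let Z' : Over S := Over.mk (pullback.fst (p' ≫ l).left b.left ≫ Z.hom)
    let z : Z' ⟶ Z := Over.homMk (pullback.fst _ _) rfl
    let t : Z' ⟶ T' := Over.homMk (pullback.snd (p' ≫ l).left b.left) (by
      show pullback.snd _ _ ≫ T'.hom = pullback.fst _ _ ≫ Z.hom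
      rw [← Over.w b, ← Category.assoc, ← pullback.condition, Category.assoc, Over.w (p' ≫ l)])
    have : Surjective z.left := MorphismProperty.pullback_fst _ _ ‹Surjective b.left›
    have htz : z ≫ p' ≫ l = t ≫ b := Over.OverMorphism.ext pullback.condition
    have key : ∀ r : Z ⟶ W', r ≫ l = p' ≫ l →
        (yon S).map z ≫ (yon S).map r ≫ χ = (yon S).map t ≫ α := by
      intro r hr
      obtain ⟨d, hd⟩ := (yon S).map_surjective (sq.lift ((yon S).map t) ((yon S).map (z ≫ r)) (by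
        rw [← Functor.map_comp, ← Functor.map_comp, Category.assoc, hr, htz]))
      have hdm : (yon S).map d ≫ (yon S).map m = (yon S).map z ≫ (yon S).map r := by
        rw [hd, sq.lift_snd, Functor.map_comp]
      have hdw : (yon S).map d ≫ (yon S).map w₁ = (yon S).map t := by rw [hd, sq.lift_fst]
      rw [← reassoc_of% hdm, hmχ, reassoc_of% hdw]
    refine ext_unique hV hY ha z ?_ ((key p' rfl).trans (key q' e.symm).symm)
    simp only [Category.assoc, hχy]
    rw [← (yon S).map_comp_assoc, e, (yon S).map_comp_assoc]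
  refine ⟨φ, Groth.AlgSp2.hom_ext_of_fppf l (by rw [reassoc_of% hφ, hχy]),
    Groth.AlgSp2.hom_ext_of_fppf w₁ ?_⟩
  rw [← Category.assoc, sq.w, Category.assoc, hφ, hmχ]

variable {f : X ⟶ Y}

/-- The hypotheses on the base morphism. -/
structure IsUH (f : X ⟶ Y) : Prop where
  int : RepWith @IsIntegralHom f
  uinj : RepWith @UniversallyInjective f
  surj : RepWith @Surjective f

theorem isUH_of (hX : IsAlgSpace X) (hY : IsAlgSpace Y) (h1 : IsIntegralMor f) (h2 : IsUnivInjectiveMor f)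
    (h3 : IsSurjectiveMor f) : IsUH f where
  int := (Groth.AlgSp2.isIntegralMor_iff hX hY).1 h1
  uinj := repWith_of_univSp universallyInjective_eq (fun A B k hk =>
    topologically_of_map_yon (φ := fun {α β} _ _ f => Function.Injective f) k
      ((Points.schemeHomeo B).symm.injective.comp (hk.comp (Points.schemeHomeo A).injective)))
    ((Groth.AlgSp2.isIntegralMor_iff hX hY).1 h1).rep h2
  surj := repWith_of_representable ((Groth.AlgSp2.isIntegralMor_iff hX hY).1 h1).rep
    fun U V g fst snd sq => ⟨fun t => by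
      obtain ⟨x, hx⟩ := h3 (Points.ofPt g t)
      obtain ⟨v, -, hv⟩ := (map_eq_ofPt_iff sq x t).1 hx
      exact ⟨v, hv⟩⟩

/-- Morphisms between base changes of spaces etale over `Y` descend uniquely. -/
theorem existsUnique_hom (hf : IsUH f) (hY : IsAlgSpace Y) {V₁' V₂' V₁ V₂ : Sp S} (h₁ : IsAlgSpace V₁')
    (h₂ : IsAlgSpace V₂') {a₁ : V₁' ⟶ Y} {a₂ : V₂' ⟶ Y} (ha₂ : IsEtaleMor a₂) {b₁ : V₁ ⟶ X} {b₂ : V₂ ⟶ X}
    {c₁ : V₁ ⟶ V₁'} {c₂ : V₂ ⟶ V₂'} (sq₁ : IsPullback b₁ c₁ f a₁) (sq₂ : IsPullback b₂ c₂ f a₂)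
    (φ : V₁ ⟶ V₂) (hφ : φ ≫ b₂ = b₁) :
    ∃! φ' : V₁' ⟶ V₂', φ' ≫ a₂ = a₁ ∧ c₁ ≫ φ' = φ ≫ c₂ := by
  obtain ⟨U, p, hp, hps⟩ := h₁.atlas
  obtain ⟨T, b, x, sqT⟩ := hf.int.rep (p ≫ a₁)
  have : IsIntegralHom b.left := hf.int.property _ x b sqT
  have : UniversallyInjective b.left := hf.uinj.property _ x b sqT
  have : Surjective b.left := hf.surj.property _ x b sqT
  let β : (yon S).obj T ⟶ V₁ := sq₁.lift x ((yon S).map b ≫ p) (by rw [sqT.w, Category.assoc])
  have hβb : β ≫ b₁ = x := sq₁.lift_fst _ _ _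
  have hβc : β ≫ c₁ = (yon S).map b ≫ p := sq₁.lift_snd _ _ _
  have sqβ : IsPullback β ((yon S).map b) c₁ p :=
    IsPullback.of_right (by rw [hβb]; exact sqT) hβc sq₁
  obtain ⟨ψ, hψa, hψb⟩ := ext_exists h₂ hY ha₂ b (p ≫ a₁) (β ≫ φ ≫ c₂) (by
    simp only [Category.assoc]
    rw [← sq₂.w, reassoc_of% hφ, reassoc_of% hβb, sqT.w])
  obtain ⟨φ', hφ'⟩ := Groth.AlgSp2.exists_desc_of_etale p hp hps ψ fun Z p' q' e => by
    obtain ⟨pm, rfl⟩ := (yon S).map_surjective p'
    obtain ⟨qm, rfl⟩ := (yon S).map_surjective q'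
    obtain ⟨Z', z, x', sqZ⟩ := hf.int.rep ((yon S).map pm ≫ p ≫ a₁)
    have : Surjective z.left := hf.surj.property _ x' z sqZ
    have eq' : (yon S).map qm ≫ p ≫ a₁ = (yon S).map pm ≫ p ≫ a₁ := by rw [reassoc_of% e]
    have key : ∀ r : Z ⟶ U, (yon S).map r ≫ p = (yon S).map pm ≫ p →
        (yon S).map z ≫ (yon S).map r ≫ ψ =
          sq₁.lift x' ((yon S).map z ≫ (yon S).map pm ≫ p) (by rw [sqZ.w]; simp) ≫ φ ≫ c₂ := by
      intro r hr
      let d := sqT.lift x' ((yon S).map z ≫ (yon S).map r) (by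
        rw [sqZ.w, Category.assoc, reassoc_of% hr])
      have hd₁ : d ≫ x = x' := sqT.lift_fst _ _ _
      have hd₂ : d ≫ (yon S).map b = (yon S).map z ≫ (yon S).map r := sqT.lift_snd _ _ _
      have hdβ : d ≫ β = sq₁.lift x' ((yon S).map z ≫ (yon S).map pm ≫ p) (by rw [sqZ.w]; simp) :=
        sq₁.hom_ext (by rw [Category.assoc, hβb, hd₁, sq₁.lift_fst])
          (by rw [Category.assoc, hβc, reassoc_of% hd₂, hr, sq₁.lift_snd])
      rw [← reassoc_of% hd₂, hψb, reassoc_of% hdβ]
    refine ext_unique h₂ hY ha₂ z ?_ ((key pm rfl).trans (key qm e.symm).symm)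
    simp only [Category.assoc, hψa, eq']
  have hβ₁ : RepWith @Etale β := repWith_of_isPullback sqβ.flip hp
  have hβ₂ : RepWith @Surjective β := repWith_of_isPullback sqβ.flip hps
  refine ⟨φ', ⟨Groth.AlgSp2.hom_ext_of_etale p hp hps (by rw [reassoc_of% hφ', hψa]),
    Groth.AlgSp2.hom_ext_of_etale β hβ₁ hβ₂ ?_⟩, ?_⟩
  · rw [reassoc_of% hβc, hφ', hψb]
  · rintro φ'' ⟨e₁, e₂⟩
    refine Groth.AlgSp2.hom_ext_of_etale p hp hps (hφ'.symm ▸ ?_)
    refine ext_unique h₂ hY ha₂ b (by rw [Category.assoc, e₁, hψa]) ?_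
    rw [hψb, ← reassoc_of% hβc, e₂]

/-- Every space etale over `X` is the base change of a space etale over `Y`. -/
theorem exists_descend (hf : IsUH f) (hY : IsAlgSpace Y) (hX : IsAlgSpace X) (hV : IsAlgSpace V) {b : V ⟶ X}
    (hb : IsEtaleMor b) :
    ∃ (V' : Sp S) (a : V' ⟶ Y) (c : V ⟶ V'), IsAlgSpace V' ∧ IsEtaleMor a ∧ IsPullback b c f a := by
  obtain ⟨U₀, y₀, hy₀, hy₀s⟩ := hY.atlas
  obtain ⟨X₀, b₀, x₀, sq₀⟩ := hf.int.rep y₀
  have : IsIntegralHom b₀.left := hf.int.property _ x₀ b₀ sq₀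
  have : UniversallyInjective b₀.left := hf.uinj.property _ x₀ b₀ sq₀
  have : Surjective b₀.left := hf.surj.property _ x₀ b₀ sq₀
  obtain ⟨W₀, p, hp, hps⟩ := hV.atlas
  obtain ⟨W, w₁, w₂, sqW⟩ := exists_pullback_yon (hb p hp).rep x₀
  have : Etale w₂.left := (hb p hp).property _ _ w₂ sqW
  let π : (yon S).obj W ⟶ V := (yon S).map w₁ ≫ p
  have hπ : RepWith @Etale π := repWith_comp (repWith_of_isPullback sqW.flip (repWith_of_isPullback sq₀.flip hy₀)) hp
  have hπs : RepWith @Surjective π :=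
    repWith_comp (repWith_of_isPullback sqW.flip (repWith_of_isPullback sq₀.flip hy₀s)) hps
  obtain ⟨W', l, m, hl, sqm⟩ := exists_lift_scheme b₀ w₂
  let y : (yon S).obj W' ⟶ Y := (yon S).map l ≫ y₀
  let xW : (yon S).obj W ⟶ X := π ≫ b
  have hxW : (yon S).map w₂ ≫ x₀ = xW := by rw [← sqW.w]; exact (Category.assoc _ _ _).symm
  have sqWX : IsPullback xW ((yon S).map m) f y := hxW ▸ sqm.paste_horiz sq₀
  have hy : RepWith @Etale y := repWith_comp ((repWith_yon_map_iff _ l).2 hl) hy₀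
  have : IsIntegralHom m.left := hf.int.property _ _ m sqWX
  have : UniversallyInjective m.left := hf.uinj.property _ _ m sqWX
  have : Surjective m.left := hf.surj.property _ _ m sqWX
  obtain ⟨R, r₁, r₂, sqR⟩ := exists_pullback_yon hπ.rep π
  have : Etale r₁.left := repWith_fst_of_isPullback sqR.flip hπ
  obtain ⟨R', l₁, mR, hl₁, sqmR⟩ := exists_lift_scheme m r₁
  let yR : (yon S).obj R' ⟶ Y := (yon S).map l₁ ≫ y
  let xR : (yon S).obj R ⟶ X := (yon S).map r₁ ≫ xW
  have sqRX : IsPullback xR ((yon S).map mR) f yR := sqmR.paste_horiz sqWX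
  have hyR : RepWith @Etale yR := repWith_comp ((repWith_yon_map_iff _ l₁).2 hl₁) hy
  have : IsIntegralHom mR.left := hf.int.property _ _ mR sqRX
  have : UniversallyInjective mR.left := hf.uinj.property _ _ mR sqRX
  have : Surjective mR.left := hf.surj.property _ _ mR sqRX
  have hR' := IsAlgSpace.yon_obj R'
  have hW' := IsAlgSpace.yon_obj W'
  have hye : IsEtaleMor y := isEtaleMor_of_locP hY (locP_of_repWith hy)
  have hyRe : IsEtaleMor yR := isEtaleMor_of_locP hY (locP_of_repWith hyR)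
  have hxR₂ : (yon S).map r₂ ≫ xW = xR := by
    show (yon S).map r₂ ≫ π ≫ b = (yon S).map r₁ ≫ π ≫ b
    rw [reassoc_of% sqR.w]
  obtain ⟨φ, hφy, hφm⟩ := ext_exists hW' hY hye mR yR ((yon S).map (r₂ ≫ m)) (by
    rw [Functor.map_comp, Category.assoc, ← sqWX.w, reassoc_of% hxR₂, sqRX.w])
  obtain ⟨l₂, rfl⟩ := (yon S).map_surjective φ
  have hl₂e : Etale l₂.left := etale_of_repWith_comp l₂ hy (by rw [hφy]; exact hyR)
  have hmR₂ : (yon S).map r₂ ≫ (yon S).map m = (yon S).map mR ≫ (yon S).map l₂ := by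
    rw [hφm, Functor.map_comp]
  have hmR₁ : (yon S).map r₁ ≫ (yon S).map m = (yon S).map mR ≫ (yon S).map l₁ := sqmR.w
  -- pairs in the relation, described on the base change
  let rel : ∀ {T : Over S}, (T ⟶ W') → (T ⟶ W') → Prop := fun {T} u v =>
    (yon S).map u ≫ y = (yon S).map v ≫ y ∧ ∀ (Z : Over S) (k : Z ⟶ T) (α β : (yon S).obj Z ⟶ (yon S).obj W),
      α ≫ (yon S).map m = (yon S).map k ≫ (yon S).map u → β ≫ (yon S).map m = (yon S).map k ≫ (yon S).map v →
        α ≫ xW = β ≫ xW → α ≫ π = β ≫ π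
  have hrel : ∀ {T : Over S} (u v : T ⟶ W'), (∃ r : T ⟶ R', r ≫ l₁ = u ∧ r ≫ l₂ = v) ↔ rel u v := by
    intro T u v
    constructor
    · rintro ⟨r, rfl, rfl⟩
      refine ⟨?_, fun Z k α β hα hβ hx => ?_⟩
      · simp only [Functor.map_comp, Category.assoc, hφy]
        rfl
      · let d := sqRX.lift (α ≫ xW) ((yon S).map k ≫ (yon S).map r) (by
          rw [Category.assoc, sqWX.w, reassoc_of% hα, Category.assoc, Functor.map_comp, Category.assoc])
        have hd₁ : d ≫ xR = α ≫ xW := sqRX.lift_fst _ _ _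
        have hd₂ : d ≫ (yon S).map mR = (yon S).map k ≫ (yon S).map r := sqRX.lift_snd _ _ _
        have e₁ : d ≫ (yon S).map r₁ = α := sqWX.hom_ext (by rw [Category.assoc]; exact hd₁)
          (by rw [Category.assoc, hmR₁, reassoc_of% hd₂, hα, Functor.map_comp])
        have e₂ : d ≫ (yon S).map r₂ = β := sqWX.hom_ext (by rw [Category.assoc, hxR₂, hd₁, hx])
          (by rw [Category.assoc, hmR₂, reassoc_of% hd₂, hβ, Functor.map_comp])
        rw [← e₁, ← e₂, Category.assoc, Category.assoc, sqR.w]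
    · rintro ⟨hy', h⟩
      obtain ⟨T', k, x, sqT⟩ := hf.int.rep ((yon S).map u ≫ y)
      have : IsIntegralHom k.left := hf.int.property _ x k sqT
      have : UniversallyInjective k.left := hf.uinj.property _ x k sqT
      have : Surjective k.left := hf.surj.property _ x k sqT
      let α := sqWX.lift x ((yon S).map k ≫ (yon S).map u) (by rw [Category.assoc, sqT.w])
      let β := sqWX.lift x ((yon S).map k ≫ (yon S).map v) (by rw [Category.assoc, ← hy', sqT.w])
      have e := h T' k α β (sqWX.lift_snd _ _ _) (sqWX.lift_snd _ _ _)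
        ((sqWX.lift_fst _ _ _).trans (sqWX.lift_fst _ _ _).symm)
      let d := sqR.lift α β e
      obtain ⟨φ, hφ₁, hφ₂⟩ := ext_exists hR' hY hyRe k ((yon S).map u ≫ y) (d ≫ (yon S).map mR) (by
        show (d ≫ (yon S).map mR) ≫ (yon S).map l₁ ≫ y = _
        rw [Category.assoc, ← reassoc_of% hmR₁, sqR.lift_fst_assoc, sqWX.lift_snd_assoc, Category.assoc])
      obtain ⟨r, rfl⟩ := (yon S).map_surjective φ
      refine ⟨r, (yon S).map_injective (ext_unique hW' hY hye k ?_ ?_),
        (yon S).map_injective (ext_unique hW' hY hye k ?_ ?_)⟩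
      · rw [Functor.map_comp, Category.assoc]; exact hφ₁
      · rw [Functor.map_comp, reassoc_of% hφ₂, ← hmR₁, sqR.lift_fst_assoc, sqWX.lift_snd]
      · rw [Functor.map_comp, Category.assoc, hφy, hφ₁, hy']
      · rw [Functor.map_comp, reassoc_of% hφ₂, ← hmR₂, sqR.lift_snd_assoc, sqWX.lift_snd]
  have heq : IsEqvRel l₂ l₁ := by
    refine ⟨fun T r r' e₁ e₂ => ?_, fun T => ?_⟩
    · obtain ⟨T', k, x, sqT⟩ := hf.int.rep ((yon S).map r ≫ yR)
      have : Surjective k.left := hf.surj.property _ x k sqT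
      have e₀ : (yon S).map r' ≫ yR = (yon S).map r ≫ yR := by
        show (yon S).map r' ≫ (yon S).map l₁ ≫ y = (yon S).map r ≫ (yon S).map l₁ ≫ y
        exact (Category.assoc _ _ _).symm.trans ((congrArg (· ≫ y) (((yon S).map_comp _ _).symm.trans
          ((congrArg (yon S).map e₁.symm).trans ((yon S).map_comp _ _)))).trans (Category.assoc _ _ _))
      refine (yon S).map_injective (ext_unique hR' hY hyRe k e₀.symm ?_)
      let d := sqRX.lift x ((yon S).map k ≫ (yon S).map r) (by rw [Category.assoc, sqT.w])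
      let d' := sqRX.lift x ((yon S).map k ≫ (yon S).map r') (by rw [Category.assoc, e₀, sqT.w])
      have hd : d = d' := by
        refine sqR.hom_ext (sqWX.hom_ext ?_ ?_) (sqWX.hom_ext ?_ ?_)
        · rw [Category.assoc, Category.assoc]
          exact (sqRX.lift_fst _ _ _).trans (sqRX.lift_fst _ _ _).symm
        · simp only [Category.assoc, hmR₁]
          rw [sqRX.lift_snd_assoc, sqRX.lift_snd_assoc, Category.assoc, Category.assoc,
            ← Functor.map_comp (yon S) r, ← Functor.map_comp (yon S) r', e₁]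
        · simp only [Category.assoc, hxR₂]
          exact (sqRX.lift_fst _ _ _).trans (sqRX.lift_fst _ _ _).symm
        · simp only [Category.assoc, hmR₂]
          rw [sqRX.lift_snd_assoc, sqRX.lift_snd_assoc, Category.assoc, Category.assoc,
            ← Functor.map_comp (yon S) r, ← Functor.map_comp (yon S) r', e₂]
      have := congrArg (· ≫ (yon S).map mR) hd
      simpa [d, d'] using this
    · have refl' : ∀ u : T ⟶ W', rel u u := fun u =>
        ⟨rfl, fun Z k α β hα hβ hx => congrArg (· ≫ π) (sqWX.hom_ext hx (hα.trans hβ.symm))⟩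
      have symm' : ∀ {u v : T ⟶ W'}, rel u v → rel v u := fun {u v} h =>
        ⟨h.1.symm, fun Z k α β hα hβ hx => (h.2 Z k β α hβ hα hx.symm).symm⟩
      have trans' : ∀ {u v w : T ⟶ W'}, rel u v → rel v w → rel u w := fun {u v w} h h' => by
        refine ⟨h.1.trans h'.1, fun Z k α β hα hβ hx => ?_⟩
        let γ := sqWX.lift (α ≫ xW) ((yon S).map k ≫ (yon S).map v) (by
          rw [Category.assoc, sqWX.w, reassoc_of% hα, h.1, Category.assoc])
        exact (h.2 Z k α γ hα (sqWX.lift_snd _ _ _) (sqWX.lift_fst _ _ _).symm).trans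
          (h'.2 Z k γ β (sqWX.lift_snd _ _ _) hβ ((sqWX.lift_fst _ _ _).trans hx))
      exact ⟨fun u => (hrel u u).2 (refl' u), fun {u v} h => (hrel v u).2 (symm' ((hrel u v).1 h)),
        fun {u v w} h h' => (hrel u w).2 (trans' ((hrel u v).1 h) ((hrel v w).1 h'))⟩
  have := isLocallySurjective_yonQuotπ l₂ l₁
  have sqQ := isPullback_yonQuot heq
  let q := yonQuotπ l₂ l₁
  obtain ⟨hV', hq, hqs⟩ := isAlgSpace_of_kernelPair sqQ
  obtain ⟨a, ha'⟩ := Cofork.IsColimit.desc' (isColimitYonQuot l₂ l₁) y (show (yon S).map l₁ ≫ y = (yon S).map l₂ ≫ y from hφy.symm)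
  have ha : q ≫ a = y := ha'
  have hae : IsEtaleMor a := isEtaleMor_of_locP hY
    (locP_of_source_cover hV' hY hq hqs (ha.symm ▸ locP_of_repWith hy))
  obtain ⟨c, hc⟩ := Groth.AlgSp2.exists_desc_of_etale π hπ hπs ((yon S).map m ≫ q) fun Z p' q' e => by
    let d := sqR.lift p' q' e
    rw [← sqR.lift_fst p' q' e, Category.assoc, ← Category.assoc _ _ q, hmR₁]
    conv_rhs => rw [← sqR.lift_snd p' q' e, Category.assoc, ← Category.assoc _ _ q, hmR₂]
    simp only [Category.assoc]
    rw [sqQ.w]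
  have hw : b ≫ f = c ≫ a := Groth.AlgSp2.hom_ext_of_etale π hπ hπs (by
    refine (Category.assoc _ _ _).symm.trans ((sqWX.w).trans ?_)
    rw [← ha, ← Category.assoc, ← hc, Category.assoc])
  -- the base change has the same chart and relation
  let πP : (yon S).obj W ⟶ pullback f a := pullback.lift xW ((yon S).map m ≫ q) (by
    exact sqWX.w.trans ((congrArg ((yon S).map m ≫ ·) ha.symm).trans (Category.assoc _ _ _).symm))
  have sqP : IsPullback πP ((yon S).map m) (pullback.snd f a) q :=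
    IsPullback.of_right (by rw [pullback.lift_fst, ha]; exact sqWX) (pullback.lift_snd _ _ _)
      (IsPullback.of_hasPullback f a)
  have hπP : RepWith @Etale πP := repWith_of_isPullback sqP.flip hq
  have hπPs : RepWith @Surjective πP := repWith_of_isPullback sqP.flip hqs
  let F : V ⟶ pullback f a := pullback.lift b c hw
  have hF : π ≫ F = πP := by
    apply pullback.hom_ext
    · simp [F, πP, xW]
    · simp [F, πP, hc]
  obtain ⟨G, hG⟩ := Groth.AlgSp2.exists_desc_of_etale πP hπP hπPs π fun Z p' q' e => by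
    obtain ⟨u, hu⟩ := (yon S).map_surjective (p' ≫ (yon S).map m)
    obtain ⟨v, hv⟩ := (yon S).map_surjective (q' ≫ (yon S).map m)
    have e₁ : p' ≫ xW = q' ≫ xW := by
      have := e =≫ pullback.fst f a
      simpa [πP] using this
    have e₂ : (yon S).map u ≫ q = (yon S).map v ≫ q := by
      have := e =≫ pullback.snd f a
      rw [hu, hv]
      simpa [πP] using this
    obtain ⟨r, hr⟩ := (yon S).map_surjective (sqQ.lift ((yon S).map u) ((yon S).map v) e₂)
    have hr' := (hrel u v).1 ⟨r, (yon S).map_injective (by rw [Functor.map_comp, hr, sqQ.lift_fst]),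
      (yon S).map_injective (by rw [Functor.map_comp, hr, sqQ.lift_snd])⟩
    exact hr'.2 Z (𝟙 Z) p' q' (by rw [CategoryTheory.Functor.map_id, Category.id_comp, hu])
      (by rw [CategoryTheory.Functor.map_id, Category.id_comp, hv]) e₁
  have : IsIso F := ⟨G, Groth.AlgSp2.hom_ext_of_etale π hπ hπs (by rw [reassoc_of% hF, hG, Category.comp_id]),
    Groth.AlgSp2.hom_ext_of_etale πP hπP hπPs (by rw [reassoc_of% hG, hF, Category.comp_id])⟩
  exact ⟨_, a, c, hV', hae, IsPullback.of_iso_pullback ⟨hw⟩ (asIso F) (pullback.lift_fst _ _ _)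
    (pullback.lift_snd _ _ _)⟩

end Groth.AlgSpEt.UH
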