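import Groth.Agent.AlgSpEt.Local
import Groth.Agent.Hensel1.BranchNbhd

/-!
# Branches of algebraic spaces read on etale local rings
-/

set_option autoImplicit false
set_option backward.isDefEq.respectTransparency false

universe u

open CategoryTheory CategoryTheory.Limits AlgebraicGeometry AlgSp Groth.AlgSpBasic

namespace Groth.AlgSpEt

theorem encard_minimalPrimes_le_numGeomBranchesAt {U : Scheme.{u}} (u : ↥U) :
    (minimalPrimes (U.presheaf.stalk u)).encard ≤ Brnch.numGeomBranchesAt U u :=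
  ((ENat.card_coe_set_eq _).symm.le).trans (Groth.Hensel1.card_minimalPrimes_le_numGeomBranches _)

theorem one_le_encard_minimalPrimes (A : Type*) [CommRing A] [Nontrivial A] :
    1 ≤ (minimalPrimes A).encard := by
  rw [Set.one_le_encard_iff_nonempty]
  obtain ⟨m, hm⟩ := Ideal.exists_maximal A
  obtain ⟨P, hP, -⟩ := Ideal.exists_minimalPrimes_le (I := (⊥ : Ideal A)) (J := m) bot_le
  exact ⟨P, hP⟩

theorem hasUniqueMinimalPrime_iff_encard (A : Type*) [CommRing A] :
    CAlgX.HasUniqueMinimalPrime A ↔ (minimalPrimes A).encard = 1 := by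
  rw [Set.encard_eq_one]
  refine ⟨fun ⟨P, hP, hu⟩ => ⟨P, Set.eq_singleton_iff_unique_mem.2 ⟨hP, hu⟩⟩, fun ⟨P, hP⟩ => ?_⟩
  exact ⟨P, (Set.eq_singleton_iff_unique_mem.1 hP).1, (Set.eq_singleton_iff_unique_mem.1 hP).2⟩

variable {S : Scheme.{u}} {X : Sp S}

theorem numGeomBranchesAt_eq {p : FieldPt X} (hp : p.IsGeometric) {U : Over S}
    {a : (yon S).obj U ⟶ X} (ha : RepWith @Etale a) (u : ↥U.left) (hu : Points.ofPt a u = Points.mk p) :
    Brnch.numGeomBranchesAt U.left u = (minimalPrimes ↥(OEtStalk p)).encard := by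
  obtain ⟨T, _, _, _, _, _, ⟨e⟩⟩ := exists_strictHenselization hp ha u hu
  rw [← encard_minimalPrimes_ringEquiv e, ← ENat.card_coe_set_eq]
  exact (Groth.Hensel1.card_minimalPrimes_strictHenselization_eq_numGeomBranches
    (U.left.presheaf.stalk u) T).symm

theorem numGeomBranchesAt_le_of_forall {x : Points X} {N : ℕ∞}
    (h : ∀ (U : Over S) (a : (yon S).obj U ⟶ X) (u : ↥U.left),
      RepWith @Etale a → Points.ofPt a u = x → (minimalPrimes ↥(U.left.presheaf.stalk u)).encard ≤ N)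
    {U : Over S} {a : (yon S).obj U ⟶ X} (ha : RepWith @Etale a) (u : ↥U.left)
    (hu : Points.ofPt a u = x) : Brnch.numGeomBranchesAt U.left u ≤ N := by
  rw [Groth.Hensel1.numGeomBranchesAt_eq_iSup]
  refine iSup_le fun U' => iSup_le fun g => iSup_le fun u' => iSup_le fun hg => ?_
  have := hg.1
  let V : U.left.Etale := Scheme.Etale.mk g
  rw [Groth.Hensel1.encard_components_eq_card_minimalPrimes, ENat.card_coe_set_eq]
  refine h (EtOver.overOfEtale V) ((yon S).map (EtOver.homOfEtale V) ≫ a) u'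
    (EtOver.repWith_etale_ofChart_obj a ha V) ?_
  rw [ofPt_comp_yon]
  exact (congrArg (Points.ofPt a) hg.2).trans hu

theorem exists_chart_le_encard {x : Points X} {n : ℕ} (hn : 1 ≤ n) {U : Over S}
    {a : (yon S).obj U ⟶ X} (ha : RepWith @Etale a) (u : ↥U.left)
    (hu : Points.ofPt a u = x) (h : (n : ℕ∞) ≤ Brnch.numGeomBranchesAt U.left u) :
    ∃ (U' : Over S) (a' : (yon S).obj U' ⟶ X) (u' : ↥U'.left),
      RepWith @Etale a' ∧ Points.ofPt a' u' = x ∧ (n : ℕ∞) ≤ (minimalPrimes ↥(U'.left.presheaf.stalk u')).encard := by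
  by_contra hne
  push Not at hne
  have hle := numGeomBranchesAt_le_of_forall (N := ((n - 1 : ℕ) : ℕ∞)) (fun U' a' u' ha' hu' => by
    have h1 := hne U' a' u' ha' hu'
    obtain ⟨m, hm⟩ := ENat.ne_top_iff_exists.1 (ne_top_of_lt h1)
    rw [← hm] at h1 ⊢
    exact_mod_cast Nat.le_sub_one_of_lt (by exact_mod_cast h1)) ha u hu
  have h2 : (n : ℕ) ≤ n - 1 := by exact_mod_cast h.trans hle
  omega

end Groth.AlgSpEt
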