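import Groth.Agent.AlgSpEt.Nbhd
import Mathlib.CategoryTheory.Sites.Point.Basic
import Mathlib.CategoryTheory.Filtered.Final

/-!
# Etale neighbourhoods on a chart are cofinal; the point of the small etale site
-/

set_option autoImplicit false
set_option backward.isDefEq.respectTransparency false

universe u

open CategoryTheory CategoryTheory.Limits AlgebraicGeometry Opposite AlgSp Groth.AlgSpBasic

namespace Groth.AlgSpEt

variable {S : Scheme.{u}} {X : Sp S} (p : FieldPt X) {U : Over S} {a : (yon S).obj U ⟶ X}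
  (ha : RepWith @Etale a) (t : p.pt ⟶ U) (ht : (yon S).map t ≫ a = p.toHom)

/-- The lift of the geometric point to the chart, as a morphism of schemes. -/
noncomputable abbrev chartPt : Spec (CommRingCat.of p.K) ⟶ U.left := t.left

variable [IsSepClosed p.K]

include ht in
theorem lift_spec {V : U.left.Etale} (l : (Scheme.pointSmallEtale (chartPt p t)).fiber.obj V) :
    (yon S).map (Over.homMk l.left ((congrArg (· ≫ U.hom) (Over.w l)).trans (Over.w t)) :
      p.pt ⟶ EtOver.overOfEtale V) ≫ ((EtOver.ofChart a ha).obj V).obj.hom = p.toHom := by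
  change (yon S).map _ ≫ (yon S).map _ ≫ a = _
  rw [← Category.assoc, ← Functor.map_comp]
  refine Eq.trans ?_ ht
  congr 2
  exact Over.OverMorphism.ext (Over.w l)

/-- Lifts along the chart, as a natural transformation. -/
noncomputable def liftNat :
    (Scheme.pointSmallEtale (chartPt p t)).fiber ⟶ EtOver.ofChart a ha ⋙ FieldPt.liftsTo p where
  app V := ↾fun l => ⟨_, lift_spec p ha t ht l⟩
  naturality V V' φ := by
    ext l
    exact Subtype.ext (Over.OverMorphism.ext rfl)

/-- Etale neighbourhoods of the point on the chart, seen as etale neighbourhoods in the space. -/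
noncomputable def chartFun : (Scheme.pointSmallEtale (chartPt p t)).fiber.Elements ⥤ EtNbhd p :=
  CategoryOfElements.map (liftNat p ha t ht) ⋙ Functor.Elements.precomp (EtOver.ofChart a ha) (FieldPt.liftsTo p)

theorem exists_chartFun_obj_hom {c : (Scheme.pointSmallEtale (chartPt p t)).fiber.Elements} {N : EtNbhd p}
    (f : N ⟶ (chartFun p ha t ht).obj c) :
    ∃ (c' : (Scheme.pointSmallEtale (chartPt p t)).fiber.Elements) (k : c' ⟶ c)
      (e : (chartFun p ha t ht).obj c' ⟶ N), e ≫ f = (chartFun p ha t ht).map k := by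
  obtain ⟨V, l⟩ := c
  obtain ⟨E, w⟩ := N
  let g : E.obj.left ⟶ EtOver.overOfEtale V := f.1.hom.left
  have hg : Etale g.left := EtOver.etale_left f.1
  have : Etale V.hom := V.prop
  let V' : U.left.Etale := Scheme.Etale.mk (g.left ≫ V.hom)
  have hw : w.1.left ≫ g.left = l.left := congrArg (fun z => z.1.left) f.2
  let l' : (Scheme.pointSmallEtale (chartPt p t)).fiber.obj V' := Over.homMk w.1.left (by
    show w.1.left ≫ g.left ≫ V.hom = _
    rw [← Category.assoc, hw]
    exact Over.w l)
  let k : V' ⟶ V := MorphismProperty.Over.homMk g.left rfl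
  refine ⟨(Scheme.pointSmallEtale (chartPt p t)).fiber.elementsMk V' l',
    CategoryOfElements.homMk _ _ k (Over.OverMorphism.ext hw), ?_⟩
  let e : (EtOver.ofChart a ha).obj V' ⟶ E := EtOver.homMk (Over.homMk (𝟙 _) (by
      show 𝟙 _ ≫ E.obj.left.hom = (g.left ≫ V.hom) ≫ U.hom
      rw [Category.id_comp, Category.assoc]
      exact (Over.w g).symm))
    (by
      refine Eq.trans (congrArg _ (EtOver.w f.1).symm) ?_
      change (yon S).map _ ≫ (yon S).map g ≫ (yon S).map _ ≫ a = (yon S).map _ ≫ a
      rw [← Category.assoc, ← Category.assoc, ← Functor.map_comp, ← Functor.map_comp]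
      congr 2)
  exact ⟨CategoryOfElements.homMk _ _ e (Subtype.ext (Over.OverMorphism.ext (Category.comp_id _))),
    CategoryOfElements.ext _ _ _ (EtOver.hom_ext _ _ (Over.OverMorphism.ext (Category.id_comp _)))⟩

/-- Neighbourhoods on a chart are cofinal among all etale neighbourhoods. -/
theorem initial_chartFun : (chartFun p ha t ht).Initial := by
  refine Functor.initial_of_exists_of_isCofiltered _ (fun N => ?_) (fun {N c} s s' => ?_)
  · let V₀ : U.left.Etale := Scheme.Etale.mk (𝟙 U.left)
    let c₀ := (Scheme.pointSmallEtale (chartPt p t)).fiber.elementsMk V₀ (Over.homMk t.left (Category.comp_id _))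
    obtain ⟨M, ⟨f₁⟩, ⟨f₂⟩⟩ := exists_common p ((chartFun p ha t ht).obj c₀) N
    obtain ⟨c', -, e, -⟩ := exists_chartFun_obj_hom p ha t ht f₁
    exact ⟨c', ⟨e ≫ f₂⟩⟩
  · obtain ⟨M, h, e⟩ := exists_equalizer p s s'
    obtain ⟨c', k, e', hk⟩ := exists_chartFun_obj_hom p ha t ht h
    exact ⟨c', k, by rw [← hk, Category.assoc, Category.assoc, e]⟩

end Groth.AlgSpEt

namespace Groth.AlgSpEt

variable {S : Scheme.{u}} {X : Sp S} (p : FieldPt X)

/-- The etale neighbourhoods of a geometric point have a small initial subcategory. -/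
theorem initiallySmall_etNbhd (hX : IsAlgSpace X) (hp : p.IsGeometric) :
    InitiallySmall.{u} (EtNbhd p) := by
  have : IsAlgClosed p.K := hp
  obtain ⟨U, a, t, ha, ht⟩ := exists_chart hX hp
  have := initial_chartFun p ha t ht
  exact initiallySmall_of_initial_of_initiallySmall (chartFun p ha t ht)

/-- A geometric point defines a point of the small etale site. -/
noncomputable def ptEt (hX : IsAlgSpace X) (hp : p.IsGeometric) : GrothendieckTopology.Point.{u} (etTop X) where
  fiber := FieldPt.liftsTo p
  isCofiltered := isCofiltered_etNbhd p hX hp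
  initiallySmall := initiallySmall_etNbhd p hX hp
  jointly_surjective {E} R hR x := by
    obtain ⟨R₀, hR₀, hle⟩ := Precoverage.mem_toGrothendieck_iff_of_isStableUnderComposition.1 hR
    obtain ⟨ι, Y, f, rfl⟩ := R₀.exists_eq_ofArrows
    obtain ⟨i, y, hy⟩ := exists_lift_of_mem_etPre p hp ((FieldPt.liftsTo p).elementsMk E x) Y f hR₀
    exact ⟨Y i, f i, hle _ _ ⟨i⟩, y, hy⟩

end Groth.AlgSpEt
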