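import Groth.Agent.AlgSpEt.Stalks
import Groth.Agent.EtaleBase.ClosedLift
import Groth.Prelude.Def_AlgSpOX2
import Mathlib.CategoryTheory.Sites.DenseSubsite.Basic

/-!
# Base change of the small etale site along a closed immersion of spaces
-/

set_option autoImplicit false
set_option backward.isDefEq.respectTransparency false

universe u

open CategoryTheory CategoryTheory.Limits AlgebraicGeometry Opposite AlgSp Groth.AlgSpBasic

namespace Groth.AlgSpEt

variable {S : Scheme.{u}} {Z X : Sp S} {i : Z ⟶ X} (hi : RepWith @IsClosedImmersion i)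

/-- The projection of a base change along a closed immersion is a closed immersion. -/
theorem isClosedImmersion_snd (U : EtOver X) : IsClosedImmersion (hi.1.snd U.obj.hom).left :=
  hi.2 U.obj.hom _ _ (hi.1.isPullback U.obj.hom)

set_option backward.isDefEq.respectTransparency.types false in
/-- Objects over a base change are, locally, base changes. -/
theorem exists_refinement {U : EtOver X} {V : EtOver Z} (g : V ⟶ (EtOver.bc hi.1).obj U)
    (v : ↥V.obj.left.left) :
    ∃ (U' : EtOver X) (a : U' ⟶ U) (h : (EtOver.bc hi.1).obj U' ⟶ V),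
      h ≫ g = (EtOver.bc hi.1).map a ∧ v ∈ Set.range h.hom.left.left := by
  have := isClosedImmersion_snd hi U
  have := EtOver.etale_left g
  obtain ⟨W, w, hw, h, hh, hopen, hv⟩ :=
    Groth.EtaleBase.exists_etale_lift (hi.1.snd U.obj.hom).left g.hom.left.left v
  let W' : Over S := Over.mk (w ≫ U.obj.left.hom)
  let w' : W' ⟶ U.obj.left := Over.homMk w rfl
  let U' : EtOver X := EtOver.mk ((yon S).map w' ≫ U.obj.hom)
    ((repWith_isMultiplicative (S := S) @Etale).comp_mem _ _ ((repWith_yon_map_iff _ _).2 hw) U.property)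
  let a : U' ⟶ U := EtOver.homMk w' rfl
  have sq := (EtOver.isPullback_bcMap_left hi.1 a).flip
  let e := sq.isoPullback
  have key : e.hom ≫ h ≫ g.hom.left.left = (EtOver.bcMap hi.1 a).hom.left.left := by
    rw [hh]
    exact sq.isoPullback_hom_snd
  let l : (EtOver.bcObj hi.1 U').obj.left ⟶ V.obj.left := Over.homMk (e.hom ≫ h) (by
    rw [← Over.w g.hom.left, Category.assoc, reassoc_of% key]
    exact Over.w (EtOver.bcMap hi.1 a).hom.left)
  have hl : l ≫ g.hom.left = (EtOver.bcMap hi.1 a).hom.left :=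
    Over.OverMorphism.ext ((Category.assoc _ _ _).trans key)
  refine ⟨U', a, EtOver.homMk l ?_, EtOver.hom_ext _ _ hl, ?_⟩
  · rw [← EtOver.w g]
    exact ((yon S).map_comp_assoc _ _ _).symm.trans
      ((congrArg (fun m => (yon S).map m ≫ _) hl).trans (EtOver.w (EtOver.bcMap hi.1 a)))
  · obtain ⟨y, rfl⟩ := hv
    obtain ⟨y', rfl⟩ := e.hom.surjective y
    exact ⟨y', rfl⟩

/-- Every object of the site of the closed subspace is covered by base changes. -/
theorem exists_bc_cover (hX : IsAlgSpace X) (V : EtOver Z) (v : ↥V.obj.left.left) :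
    ∃ (U : EtOver X) (h : (EtOver.bc hi.1).obj U ⟶ V), v ∈ Set.range h.hom.left.left := by
  obtain ⟨U₀, a, ha, has⟩ := hX.atlas
  let U : EtOver X := EtOver.mk a ha
  obtain ⟨p, w, hp, rfl⟩ := exists_geometric_lift V v
  obtain ⟨u, hu⟩ := surjective_ofPt_of_repWith has (Points.mk (p.map i))
  obtain ⟨t, ht, -⟩ := exists_lift (p := p.map i) hp a ha u hu
  let l : p.pt ⟶ ((EtOver.bc hi.1).obj U).obj.left :=
    hi.1.lift p.toHom t ((ht.trans (FieldPt.toHom_map i p)).symm)
  let P := EtOver.prodObj V ((EtOver.bc hi.1).obj U)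
  let m : p.pt ⟶ P.obj.left := ((EtOver.bc hi.1).obj U).property.1.lift' l w.1
    ((hi.1.lift_fst _ _ _).trans w.2.symm)
  obtain ⟨U', a', h, -, hu'⟩ := exists_refinement hi (EtOver.prodSnd V ((EtOver.bc hi.1).obj U)) (m.left (ctr p))
  obtain ⟨y, hy⟩ := hu'
  refine ⟨U', h ≫ EtOver.prodFst V _, y, ?_⟩
  show (EtOver.prodFst V _).hom.left.left (h.hom.left.left y) = _
  rw [hy]
  exact congrArg (fun k : p.pt ⟶ V.obj.left => k.left (ctr p))
    (Functor.relativelyRepresentable.lift'_snd ((EtOver.bc hi.1).obj U).property.1 l w.1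
      ((hi.1.lift_fst _ _ _).trans w.2.symm))

/-- Base change along a closed immersion is cover dense. -/
theorem isCoverDense_bc (hX : IsAlgSpace X) : (EtOver.bc hi.1).IsCoverDense (etTop Z) := by
  constructor
  intro V
  choose U h hv using exists_bc_cover hi hX V
  refine (etTop Z).superset_covering ?_ (ofArrows_mem_etTop _ h fun v => ⟨v, hv v⟩)
  refine (Sieve.generate_le_iff _ _).2 (Presieve.ofArrows_le_iff.2 fun v => ?_)
  exact ⟨⟨U v, 𝟙 _, h v, (Category.id_comp _).symm⟩⟩

/-- Base change along a closed immersion is locally full. -/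
theorem isLocallyFull_bc : (EtOver.bc hi.1).IsLocallyFull (etTop Z) := by
  constructor
  intro U₁ U₂ f
  let P := EtOver.prodObj U₁ U₂
  let F := EtOver.bc hi.1
  have loc : ∀ v : ↥(F.obj U₁).obj.left.left, ∃ (U' : EtOver X) (b : U' ⟶ U₁) (h : F.obj U' ⟶ F.obj U₁),
      (F.imageSieve f) b ∧ h = F.map b ∧ v ∈ Set.range h.hom.left.left := by
    intro v
    let gl : (F.obj U₁).obj.left ⟶ P.obj.left :=
      U₂.property.1.lift' ((f.hom.left) ≫ hi.1.snd U₂.obj.hom) (hi.1.snd U₁.obj.hom) (by
        rw [Functor.map_comp, Category.assoc, ← hi.1.w, ← hi.1.w, ← Category.assoc]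
        exact congrArg (· ≫ i) (EtOver.w f))
    let g : F.obj U₁ ⟶ F.obj P := EtOver.homMk
      (hi.1.lift (hi.1.fst U₁.obj.hom) gl (by
        change _ = (yon S).map gl ≫ (yon S).map _ ≫ U₁.obj.hom
        rw [← Category.assoc ((yon S).map gl), ← Functor.map_comp,
          Functor.relativelyRepresentable.lift'_snd]
        exact hi.1.w _))
      (hi.1.lift_fst _ _ _)
    have hg₁ : g ≫ F.map (EtOver.prodFst U₁ U₂) = 𝟙 _ := by
      refine EtOver.hom_ext _ _ (hi.1.hom_ext ?_ ?_)
      · exact (EtOver.w (g ≫ F.map _)).trans (EtOver.w (𝟙 (F.obj U₁))).symm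
      · show ((g.hom.left ≫ (EtOver.bcMap hi.1 _).hom.left) ≫ hi.1.snd _) = 𝟙 _ ≫ _
        rw [Category.assoc, EtOver.bcMap_snd, Category.id_comp, ← Category.assoc]
        exact (congrArg (· ≫ _) (hi.1.lift_snd _ _ _)).trans
          (Functor.relativelyRepresentable.lift'_snd _ _ _ _)
    have hg₂ : g ≫ F.map (EtOver.prodSnd U₁ U₂) = f := by
      refine EtOver.hom_ext _ _ (hi.1.hom_ext ?_ ?_)
      · exact (EtOver.w (g ≫ F.map _)).trans (EtOver.w f).symm
      · show ((g.hom.left ≫ (EtOver.bcMap hi.1 _).hom.left) ≫ hi.1.snd _) = f.hom.left ≫ _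
        rw [Category.assoc, EtOver.bcMap_snd, ← Category.assoc]
        exact (congrArg (· ≫ _) (hi.1.lift_snd _ _ _)).trans
          (Functor.relativelyRepresentable.lift'_fst _ _ _ _)
    obtain ⟨U', a, h, hh, hv⟩ := exists_refinement hi g v
    have h1 : h = F.map (a ≫ EtOver.prodFst U₁ U₂) := by
      rw [Functor.map_comp, ← hh, Category.assoc, hg₁, Category.comp_id]
    refine ⟨U', a ≫ EtOver.prodFst U₁ U₂, h, ⟨a ≫ EtOver.prodSnd U₁ U₂, ?_⟩, h1, hv⟩
    rw [← h1, Functor.map_comp, ← hh, Category.assoc, hg₂]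
  choose U' b h hb he hv using loc
  refine (etTop Z).superset_covering ?_ (ofArrows_mem_etTop _ h fun v => ⟨v, hv v⟩)
  refine (Sieve.generate_le_iff _ _).2 (Presieve.ofArrows_le_iff.2 fun v => ?_)
  exact ⟨U' v, b v, 𝟙 _, hb v, (he v).trans (Category.id_comp _).symm⟩

end Groth.AlgSpEt
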