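import Groth.Agent.AlgSpEt.GorRing
import Groth.Agent.Hensel1.EtaleStalk
import Groth.Agent.Flatmor4.CMComp
import Groth.Agent.AlgSp3.HasAtMor
import Groth.Agent.AlgSp2.FlatFibres
import Groth.Prelude.Def_Dual3

/-!
# Gorenstein morphisms of algebraic spaces at a point
-/

set_option autoImplicit false
set_option backward.isDefEq.respectTransparency false

universe u

open CategoryTheory CategoryTheory.Limits AlgebraicGeometry IsLocalRing AlgSp Groth.AlgSpBasic

namespace Groth.AlgSpEt

/-- The fibre of the local rings of a pointed morphism is Gorenstein. -/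
abbrev GorFibre (U V : Scheme.{u}) (h : U ⟶ V) (u : ↥U) : Prop :=
  LocCoh.IsGorensteinLocalRing
    (U.presheaf.stalk u ⧸ (maximalIdeal (V.presheaf.stalk (h u))).map (h.stalkMap u).hom)

theorem map_maximalIdeal_le {U V : Scheme.{u}} (h : U ⟶ V) (u : ↥U) :
    (maximalIdeal (V.presheaf.stalk (h u))).map (h.stalkMap u).hom ≤ maximalIdeal (U.presheaf.stalk u) :=
  ((local_hom_TFAE (h.stalkMap u).hom).out 0 2).mp (inferInstance : IsLocalHom (h.stalkMap u).hom)

theorem isGorensteinAt_iff {U V : Scheme.{u}} (h : U ⟶ V) (u : ↥U) :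
    Dual3.IsGorensteinAt h u ↔ (h.stalkMap u).hom.Flat ∧ GorFibre U V h u := by
  obtain ⟨e⟩ := Groth.Flatmor4.exists_fiberStalkEquiv h u
  exact and_congr_right fun _ => (GorRing.isGorenstein_iff_of_ringEquiv e).symm

theorem etMor_gorFibre : Groth.AlgSp3.EtMorInvariant.{u} fun U V h u => GorFibre U V h u where
  precomp {U' U V} e _ h u := by
    let _ := (e.stalkMap u).hom.toAlgebra
    have : IsLocalHom (algebraMap (U.presheaf.stalk (e u)) (U'.presheaf.stalk u)) :=
      inferInstanceAs (IsLocalHom (e.stalkMap u).hom)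
    obtain ⟨T, _, _, _, _, hT⟩ := Groth.Hensel1.exists_isStrictHenselization (U'.presheaf.stalk u)
    let _ : Algebra (U.presheaf.stalk (e u)) T :=
      ((algebraMap (U'.presheaf.stalk u) T).comp (e.stalkMap u).hom).toAlgebra
    have : IsScalarTower (U.presheaf.stalk (e u)) (U'.presheaf.stalk u) T := .of_algebraMap_eq fun _ => rfl
    have : IsLocalHom (algebraMap (U.presheaf.stalk (e u)) T) :=
      inferInstanceAs (IsLocalHom ((algebraMap (U'.presheaf.stalk u) T).comp (e.stalkMap u).hom))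
    have := Groth.Hensel1.isStrictHenselization_of_essentiallyEtale
      (Groth.Hensel1.isEssentiallyEtale_stalkMap_of_etale e u) T
    have hJ : ((e ≫ h).stalkMap u).hom = (e.stalkMap u).hom.comp (h.stalkMap (e u)).hom := by
      rw [Scheme.Hom.stalkMap_comp]; rfl
    refine propext ?_
    show LocCoh.IsGorensteinLocalRing (U'.presheaf.stalk u ⧸
      (maximalIdeal (V.presheaf.stalk (h (e u)))).map ((e ≫ h).stalkMap u).hom) ↔ _
    refine (GorRing.isGorenstein_quotient_iff (R := T) _ (map_maximalIdeal_le (e ≫ h) u)).trans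
      (Iff.trans ?_ (GorRing.isGorenstein_quotient_iff (R := T) _ (map_maximalIdeal_le h (e u))).symm)
    refine GorRing.isGorenstein_iff_of_ringEquiv (Ideal.quotEquivOfEq ?_)
    rw [hJ, ← Ideal.map_map, Ideal.map_map]
    rfl
  postcomp {U V V'} h e _ u := by
    let _ := (e.stalkMap (h u)).hom.toAlgebra
    have hm : (maximalIdeal (V'.presheaf.stalk (e (h u)))).map (e.stalkMap (h u)).hom =
        maximalIdeal (V.presheaf.stalk (h u)) :=
      Groth.Hensel1.map_maximalIdeal_of_essentiallyEtale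
        (Groth.Hensel1.isEssentiallyEtale_stalkMap_of_etale e (h u))
    refine propext (GorRing.isGorenstein_iff_of_ringEquiv (Ideal.quotEquivOfEq ?_))
    show (maximalIdeal (V'.presheaf.stalk (e (h u)))).map ((h ≫ e).stalkMap u).hom = _
    rw [Scheme.Hom.stalkMap_comp, ← hm, Ideal.map_map]
    rfl

variable {S : Scheme.{u}} {X Y : Sp S}

/-- Being Gorenstein at a point is read on any chart diagram. -/
theorem locPAt_gorenstein_iff (hX : IsAlgSpace X) (hY : IsAlgSpace Y) {f : X ⟶ Y} {U V : Over S}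
    {a : (yon S).obj U ⟶ X} {b : (yon S).obj V ⟶ Y} {h : U ⟶ V} (ha : RepWith @Etale a)
    (hb : RepWith @Etale b) (comm : a ≫ f = (yon S).map h ≫ b) (u : ↥U.left) :
    LocPAt (fun h u => Dual3.IsGorensteinAt h u) f (Points.ofPt a u) ↔ Dual3.IsGorensteinAt h.left u := by
  refine ⟨fun H => H a b h u ha hb comm rfl, fun H U' V' a' b' h' u' ha' hb' comm' hu' => ?_⟩
  obtain ⟨hfl, hg⟩ := (isGorensteinAt_iff _ _).1 H
  refine (isGorensteinAt_iff _ _).2
    ⟨(Groth.AlgSp3.inv_eq_of_charts Groth.AlgSp2.FlatFib.etMor_flat hX.diag hY.diag ha hb comm ha' hb' comm'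
      hu'.symm).mp hfl,
    (Groth.AlgSp3.inv_eq_of_charts etMor_gorFibre hX.diag hY.diag ha hb comm ha' hb' comm' hu'.symm).mp hg⟩

/-- The chart-free criterion on strict henselizations. -/
theorem isGorensteinAt_iff_strictHenselization {U V : Scheme.{u}} (h : U ⟶ V) (u : ↥U)
    (R : Type u) [CommRing R] [IsLocalRing R] [Algebra ↥(U.presheaf.stalk u) R]
    [IsLocalHom (algebraMap ↥(U.presheaf.stalk u) R)] [Hensel.IsStrictHenselization ↥(U.presheaf.stalk u) R]
    (R' : Type u) [CommRing R'] [IsLocalRing R'] [Algebra ↥(V.presheaf.stalk (h u)) R']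
    [IsLocalHom (algebraMap ↥(V.presheaf.stalk (h u)) R')]
    [Hensel.IsStrictHenselization ↥(V.presheaf.stalk (h u)) R']
    (φ : R' →+* R)
    (hφ : φ.comp (algebraMap ↥(V.presheaf.stalk (h u)) R') =
      (algebraMap ↥(U.presheaf.stalk u) R).comp (h.stalkMap u).hom) :
    Dual3.IsGorensteinAt h u ↔ φ.Flat ∧ LocCoh.IsGorensteinLocalRing (R ⧸ (maximalIdeal R').map φ) := by
  rw [isGorensteinAt_iff]
  refine and_congr (GorRing.flat_iff_strictHenselization _ φ hφ) ?_
  refine (GorRing.isGorenstein_quotient_iff (R := R) _ (map_maximalIdeal_le h u)).trans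
    (GorRing.isGorenstein_iff_of_ringEquiv (Ideal.quotEquivOfEq ?_))
  obtain ⟨M⟩ := Groth.Hensel1.hensModel_of_isStrictHenselization (R := V.presheaf.stalk (h u)) (S := R')
  rw [← M.map_maximalIdeal, Ideal.map_map, Ideal.map_map, hφ]

end Groth.AlgSpEt
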