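import Groth.Agent.Gorenstein.BaseChange
import Groth.Agent.Hensel1.Transfer
import Groth.Agent.Hensel1.EtaleTransfer
import Groth.Agent.Hensel1.EssEt
import Groth.Agent.EtaleAlgebra.WeaklyEtale
import Groth.Agent.HensPair.IndEtale
import Groth.Agent.HensPair.Basic
import Groth.Agent.EtaleDeep.IndEt.Etale

/-!
# Gorenstein fibres and strict henselizations
-/

set_option autoImplicit false

universe u

open IsLocalRing

namespace Groth.AlgSpEt.GorRing

/-- A quotient of a strict henselization is a strict henselization of the quotient. -/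
theorem isStrictHenselization_quotient {A R : Type u} [CommRing A] [IsLocalRing A] [CommRing R]
    [IsLocalRing R] [Algebra A R] [IsLocalHom (algebraMap A R)] [hR : Hensel.IsStrictHenselization A R]
    (J : Ideal A) [IsLocalRing (A ⧸ J)] [IsLocalRing (R ⧸ J.map (algebraMap A R))]
    [IsLocalHom (algebraMap (A ⧸ J) (R ⧸ J.map (algebraMap A R)))] :
    Hensel.IsStrictHenselization (A ⧸ J) (R ⧸ J.map (algebraMap A R)) := by
  have hA : IsLocalHom (Ideal.Quotient.mk J) := .of_surjective _ Ideal.Quotient.mk_surjective
  have hm : IsLocalHom (Ideal.Quotient.mk (J.map (algebraMap A R))) :=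
    .of_surjective _ Ideal.Quotient.mk_surjective
  let q := Ideal.Quotient.mk (J.map (algebraMap A R))
  let ρA : ResidueField A ≃+* ResidueField (A ⧸ J) := RingEquiv.ofBijective (ResidueField.map (Ideal.Quotient.mk J))
    ⟨RingHom.injective _, fun z => by
      obtain ⟨y, rfl⟩ := residue_surjective z
      obtain ⟨a, rfl⟩ := Ideal.Quotient.mk_surjective y
      exact ⟨residue A a, rfl⟩⟩
  let ρR : ResidueField R ≃+* ResidueField (R ⧸ J.map (algebraMap A R)) :=
    RingEquiv.ofBijective (ResidueField.map q) ⟨RingHom.injective _, fun z => by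
      obtain ⟨y, rfl⟩ := residue_surjective z
      obtain ⟨a, rfl⟩ := Ideal.Quotient.mk_surjective y
      exact ⟨residue R a, rfl⟩⟩
  have hcomm : ∀ z : ResidueField A,
      algebraMap (ResidueField (A ⧸ J)) (ResidueField (R ⧸ J.map (algebraMap A R))) (ρA z) =
        ρR (algebraMap (ResidueField A) (ResidueField R) z) := fun z => by
    obtain ⟨a, rfl⟩ := residue_surjective z
    rfl
  have := hR.henselian
  refine ⟨Groth.HensPair.henselianLocalRing_quotient _ fun htop => not_subsingleton (R ⧸ J.map (algebraMap A R))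
    (Ideal.Quotient.subsingleton_iff.mpr htop), ⟨?_, ⟨fun z => ?_⟩⟩, fun T _ _ f _ τ hτ => ?_⟩
  · have := hR.isSepClosure.sep_closed
    exact IsSepClosed.of_exists_root _ fun p hp hirr hsep => by
      obtain ⟨x, hx⟩ := IsSepClosed.exists_root (p.map ρR.symm.toRingHom)
        (by rw [Polynomial.degree_map_eq_of_injective (f := ρR.symm.toRingHom) ρR.symm.injective]
            exact (Polynomial.degree_pos_of_irreducible hirr).ne')
        hsep.map
      refine ⟨ρR x, ρR.symm.injective ?_⟩
      rw [Polynomial.IsRoot, Polynomial.eval_map] at hx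
      rw [map_zero, ← hx]
      conv_rhs => rw [← ρR.symm_apply_apply x]
      exact (Polynomial.eval₂_at_apply ρR.symm.toRingHom (ρR x)).symm
  · obtain ⟨w, rfl⟩ := ρR.surjective z
    exact IsSeparable.of_equiv_equiv ρA ρR (RingHom.ext hcomm) (hR.isSepClosure.separable.isSeparable _ w)
  · obtain ⟨g, ⟨hg, hgτ⟩, hgu⟩ := hR.universal T (f.comp (Ideal.Quotient.mk J)) (τ.comp ρR.toRingHom)
      ((RingHom.cancel_right residue_surjective).mp (RingHom.ext fun a =>
        RingHom.congr_fun hτ (residue (A ⧸ J) (Ideal.Quotient.mk J a))))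
    have hJ : ∀ x ∈ J.map (algebraMap A R), g x = 0 := by
      show J.map (algebraMap A R) ≤ RingHom.ker g
      refine Ideal.map_le_iff_le_comap.mpr fun a ha => ?_
      show g (algebraMap A R a) = 0
      rw [← RingHom.comp_apply, hg, RingHom.comp_apply, Ideal.Quotient.eq_zero_iff_mem.mpr ha, map_zero]
    refine ⟨Ideal.Quotient.lift _ g hJ, ⟨Ideal.Quotient.ringHom_ext (RingHom.ext fun a => ?_), fun x => ?_⟩,
      fun g' ⟨hg', hg'τ⟩ => Ideal.Quotient.ringHom_ext ?_⟩
    · exact RingHom.congr_fun hg a
    · obtain ⟨x, rfl⟩ := Ideal.Quotient.mk_surjective x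
      exact hgτ x
    · have hsp : g'.comp q = g := hgu _ ⟨RingHom.ext fun a => RingHom.congr_fun hg' (Ideal.Quotient.mk J a),
        fun x => hg'τ (q x)⟩
      rw [hsp, Ideal.Quotient.lift_comp_mk]

/-- A field is Gorenstein. -/
theorem exists_injLT_field (F : Type u) [CommRing F] (hF : IsField F) : ∃ n, GrothGoren.InjLT F F n := by
  let _ := hF.toField
  exact GrothGoren.exists_injLT_of_regular _ F le_rfl

/-- The Gorenstein property is invariant under strict henselization. -/
theorem isGorenstein_iff_strictHenselization (C D : Type u) [CommRing C] [IsLocalRing C] [CommRing D]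
    [IsLocalRing D] [Algebra C D] [IsLocalHom (algebraMap C D)] [Hensel.IsStrictHenselization C D] :
    LocCoh.IsGorensteinLocalRing C ↔ LocCoh.IsGorensteinLocalRing D := by
  obtain ⟨M⟩ := Groth.Hensel1.hensModel_of_isStrictHenselization (R := C) (S := D)
  have := M.flat
  have key : ∀ [IsNoetherianRing C] [IsNoetherianRing D],
      LocCoh.IsGorensteinLocalRing C ↔ LocCoh.IsGorensteinLocalRing D := by
    intro _ _
    rw [GrothGoren.isGorenstein_iff, GrothGoren.isGorenstein_iff, GrothGoren.exists_injLT_flat_iff C D]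
    refine ⟨fun h => ⟨h, exists_injLT_field _ ?_⟩, fun h => h.1⟩
    rw [M.map_maximalIdeal]
    exact (Ideal.Quotient.maximal_ideal_iff_isField_quotient _).1 inferInstance
  refine ⟨fun h => ?_, fun h => ?_⟩
  · have := M.isNoetherianRing_iff.1 inferInstance
    exact key.1 h
  · have := M.isNoetherianRing_iff.2 inferInstance
    exact key.2 h

/-- The Gorenstein property of `A / J` is read on a strict henselization of `A`. -/
theorem isGorenstein_quotient_iff {A R : Type u} [CommRing A] [IsLocalRing A] [CommRing R] [IsLocalRing R]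
    [Algebra A R] [IsLocalHom (algebraMap A R)] [Hensel.IsStrictHenselization A R] (J : Ideal A)
    (hJ : J ≤ maximalIdeal A) :
    LocCoh.IsGorensteinLocalRing (A ⧸ J) ↔ LocCoh.IsGorensteinLocalRing (R ⧸ J.map (algebraMap A R)) := by
  have hJR : J.map (algebraMap A R) ≠ ⊤ := fun h => (maximalIdeal.isMaximal R).ne_top
    (top_le_iff.mp (h ▸ (Ideal.map_mono hJ).trans (((local_hom_TFAE (algebraMap A R)).out 0 2).mp ‹_›)))
  have : Nontrivial (A ⧸ J) := Ideal.Quotient.nontrivial_iff.mpr
    (ne_top_of_le_ne_top (maximalIdeal.isMaximal A).ne_top hJ)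
  have : Nontrivial (R ⧸ J.map (algebraMap A R)) := Ideal.Quotient.nontrivial_iff.mpr hJR
  have : IsLocalRing (A ⧸ J) := .of_surjective' _ Ideal.Quotient.mk_surjective
  have : IsLocalRing (R ⧸ J.map (algebraMap A R)) := .of_surjective' _ Ideal.Quotient.mk_surjective
  have : IsLocalHom (algebraMap (A ⧸ J) (R ⧸ J.map (algebraMap A R))) := by
    refine ((local_hom_TFAE _).out 0 2).mpr ?_
    rw [← IsLocalRing.map_maximalIdeal_of_surjective (Ideal.Quotient.mk J) Ideal.Quotient.mk_surjective,
      Ideal.map_map]
    refine le_trans (le_of_eq ?_) ((Ideal.map_mono (f := Ideal.Quotient.mk (J.map (algebraMap A R)))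
      (((local_hom_TFAE (algebraMap A R)).out 0 2).mp ‹_›)).trans
      (IsLocalRing.map_maximalIdeal_of_surjective _ Ideal.Quotient.mk_surjective).le)
    rw [Ideal.map_map]
    rfl
  have := isStrictHenselization_quotient (R := R) J
  exact isGorenstein_iff_strictHenselization _ _

/-- Flatness over a strict henselization is flatness over the ring. -/
theorem flat_iff_strictHenselization {B R' A R : Type u} [CommRing B] [IsLocalRing B] [CommRing R']
    [IsLocalRing R'] [Algebra B R'] [IsLocalHom (algebraMap B R')] [Hensel.IsStrictHenselization B R']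
    [CommRing A] [IsLocalRing A] [CommRing R] [IsLocalRing R] [Algebra A R] [IsLocalHom (algebraMap A R)]
    [Hensel.IsStrictHenselization A R] (f : B →+* A) (φ : R' →+* R)
    (h : φ.comp (algebraMap B R') = (algebraMap A R).comp f) : f.Flat ↔ φ.Flat := by
  obtain ⟨MA⟩ := Groth.Hensel1.hensModel_of_isStrictHenselization (R := A) (S := R)
  obtain ⟨MB⟩ := Groth.Hensel1.hensModel_of_isStrictHenselization (R := B) (S := R')
  have := MA.faithfullyFlat
  have := MB.flat
  have hB : Algebra.WeaklyEtale B R' :=
    Groth.EtaleDeep.IndEt.weaklyEtale (Groth.HensPair.isIndEtale_of_hensModel MB)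
  constructor
  · intro hf
    have h2 : ((algebraMap A R).comp f).Flat :=
      RingHom.Flat.comp hf (RingHom.flat_algebraMap_iff.mpr MA.flat)
    let _ := φ.toAlgebra
    let _ := ((algebraMap A R).comp f).toAlgebra
    have : IsScalarTower B R' R := IsScalarTower.of_algebraMap_eq fun b => (RingHom.congr_fun h b).symm
    have : Module.Flat B R := h2
    exact Groth.EtaleAlgebra.flat_of_flat_mul B R' hB.flat_lmul' R
  · intro hφ
    refine Groth.EtaleAlgebra.flat_of_comp_faithfullyFlat f R ?_
    rw [← h]
    exact RingHom.Flat.comp (RingHom.flat_algebraMap_iff.mpr MB.flat) hφ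

/-- An isomorphism of rings respects the Gorenstein property. -/
theorem isGorenstein_iff_of_ringEquiv {C D : Type u} [CommRing C] [CommRing D] (e : C ≃+* D) :
    LocCoh.IsGorensteinLocalRing C ↔ LocCoh.IsGorensteinLocalRing D := by
  constructor
  · intro h
    have := isNoetherianRing_of_ringEquiv C e
    have := e.isLocalRing
    exact (GrothGoren.isGorenstein_iff _).2 ((GrothGoren.exists_injLT_iff_of_ringEquiv e).1
      ((GrothGoren.isGorenstein_iff _).1 h))
  · intro h
    have := isNoetherianRing_of_ringEquiv D e.symm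
    have := e.symm.isLocalRing
    exact (GrothGoren.isGorenstein_iff _).2 ((GrothGoren.exists_injLT_iff_of_ringEquiv e.symm).1
      ((GrothGoren.isGorenstein_iff _).1 h))

end Groth.AlgSpEt.GorRing
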