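import Groth.Agent.AlgSpEt.Chart
import Groth.Agent.AlgSpEt.Stalks
import Groth.Agent.EtaleBase.SitePoints
import Mathlib.CategoryTheory.Limits.Final

/-!
# The points of the small etale site of an algebraic space are geometric points
-/

set_option autoImplicit false
set_option backward.isDefEq.respectTransparency false

universe u

open CategoryTheory CategoryTheory.Limits AlgebraicGeometry Opposite AlgSp Groth.AlgSpBasic

namespace Groth.AlgSpEt.PtGeom

variable {S : Scheme.{u}} {X : Sp S} (P : GrothendieckTopology.Point.{u} (etTop X))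

lemma map_map {A B C : EtOver X} (f : A ⟶ B) (g : B ⟶ C) (x : P.fiber.obj A) :
    P.fiber.map g (P.fiber.map f x) = P.fiber.map (f ≫ g) x :=
  ((congrArg (fun m => m x) (P.fiber.map_comp f g)).trans (ConcreteCategory.comp_apply _ _ _)).symm

lemma exists_cone {A B : EtOver X} (x : P.fiber.obj A) (y : P.fiber.obj B) :
    ∃ (W : EtOver X) (w : P.fiber.obj W) (f : W ⟶ A) (g : W ⟶ B),
      P.fiber.map f w = x ∧ P.fiber.map g w = y := by
  have := P.isCofiltered
  obtain ⟨W, f, g, -⟩ := IsCofilteredOrEmpty.cone_objs (C := P.fiber.Elements)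
    (Functor.elementsMk _ A x) (Functor.elementsMk _ B y)
  exact ⟨W.1, W.2, f.1, g.1, f.2, g.2⟩

lemma exists_coeq {A B : EtOver X} (x : P.fiber.obj A) (f g : A ⟶ B)
    (h : P.fiber.map f x = P.fiber.map g x) :
    ∃ (W : EtOver X) (w : P.fiber.obj W) (k : W ⟶ A), P.fiber.map k w = x ∧ k ≫ f = k ≫ g := by
  have := P.isCofiltered
  obtain ⟨W, k, hk⟩ := IsCofilteredOrEmpty.cone_maps (C := P.fiber.Elements)
    (X := Functor.elementsMk _ A x) (Y := Functor.elementsMk _ B (P.fiber.map f x))
    (CategoryOfElements.homMk (Functor.elementsMk _ A x) (Functor.elementsMk _ B (P.fiber.map f x)) f rfl)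
    (CategoryOfElements.homMk (Functor.elementsMk _ A x) (Functor.elementsMk _ B (P.fiber.map f x)) g h.symm)
  exact ⟨W.1, W.2, k.1, k.2, congrArg (fun m => m.1) hk⟩

variable {U : Over S}

/-- The final object of the small etale site of the chart. -/
noncomputable abbrev topObj (U : Over S) : U.left.Etale := Scheme.Etale.mk (𝟙 U.left)

/-- The map to the final object. -/
noncomputable abbrev toTop (V : U.left.Etale) : V ⟶ topObj U :=
  MorphismProperty.Over.homMk V.hom (Category.comp_id _)

variable (a : (yon S).obj U ⟶ X) (ha : RepWith @Etale a)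

/-- An element over the chart exists once the chart is surjective. -/
theorem exists_base (has : RepWith @Surjective a) :
    Nonempty (P.fiber.obj ((EtOver.ofChart a ha).obj (topObj U))) := by
  have := P.isCofiltered
  obtain ⟨⟨E, y⟩⟩ := IsCofiltered.nonempty (C := P.fiber.Elements)
  obtain ⟨W, snd, fst, sq⟩ := ha.1 E.obj.hom
  obtain ⟨fst', rfl⟩ := (yon S).map_surjective fst
  have hsnd : Etale snd.left := ha.2 E.obj.hom _ snd sq
  have hsurj : Surjective snd.left := has.2 E.obj.hom _ snd sq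
  let E' : EtOver X := EtOver.mk ((yon S).map snd ≫ E.obj.hom)
    ((repWith_isMultiplicative (S := S) @Etale).comp_mem _ _
      ((repWith_yon_map_iff _ _).2 hsnd) E.property)
  let g : E' ⟶ E := EtOver.homMk snd rfl
  obtain ⟨Y, f, hf, z, -⟩ := P.jointly_surjective
    (Sieve.ofArrows (fun _ : PUnit.{u + 1} => E') fun _ => g)
    (ofArrows_mem_etTop _ _ fun e => ⟨⟨⟩, hsurj.surj e⟩) y
  obtain ⟨⟨⟩, k, -⟩ := (Sieve.mem_ofArrows_iff _ _ _).1 hf
  let l : E' ⟶ (EtOver.ofChart a ha).obj (topObj U) := EtOver.homMk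
    (Over.homMk fst'.left (by
      show fst'.left ≫ 𝟙 _ ≫ U.hom = W.hom
      rw [Category.id_comp]
      exact Over.w fst')) (by
    show (yon S).map _ ≫ (yon S).map _ ≫ a = (yon S).map snd ≫ E.obj.hom
    rw [← Category.assoc, ← Functor.map_comp, ← sq.w]
    congr 2)
  exact ⟨P.fiber.map (k ≫ l) z⟩

variable {a}

lemma yon_comp_eq {A B B' C : Over S} {f : A ⟶ B} {g : B ⟶ C} {f' : A ⟶ B'} {g' : B' ⟶ C}
    (a : (yon S).obj C ⟶ X) (h : f ≫ g = f' ≫ g') :
    (yon S).map f ≫ (yon S).map g ≫ a = (yon S).map f' ≫ (yon S).map g' ≫ a := by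
  rw [← Category.assoc, ← Category.assoc, ← Functor.map_comp, ← Functor.map_comp, h]

/-- Objects of the site over an object coming from the chart come from the chart. -/
theorem exists_chart_iso {E : EtOver X} {V : U.left.Etale} (h : E ⟶ (EtOver.ofChart a ha).obj V) :
    ∃ (V' : U.left.Etale) (k : V' ⟶ V) (e : (EtOver.ofChart a ha).obj V' ≅ E),
      e.hom ≫ h = (EtOver.ofChart a ha).map k := by
  let g : E.obj.left ⟶ EtOver.overOfEtale V := h.hom.left
  have hg : Etale g.left := EtOver.etale_left h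
  have : Etale V.hom := V.prop
  let V' : U.left.Etale := Scheme.Etale.mk (g.left ≫ V.hom)
  have hw : g.left ≫ V.hom ≫ U.hom = E.obj.left.hom := Over.w g
  let e₁ : (EtOver.ofChart a ha).obj V' ⟶ E := EtOver.homMk (Over.homMk (𝟙 _) (by
      show 𝟙 _ ≫ E.obj.left.hom = (g.left ≫ V.hom) ≫ U.hom
      rw [Category.id_comp, Category.assoc]
      exact hw.symm))
    (by
      refine Eq.trans (congrArg _ (EtOver.w h).symm) ?_
      change (yon S).map _ ≫ (yon S).map g ≫ (yon S).map _ ≫ a = (yon S).map _ ≫ a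
      rw [← Category.assoc, ← Category.assoc, ← Functor.map_comp, ← Functor.map_comp]
      congr 2)
  let e₂ : E ⟶ (EtOver.ofChart a ha).obj V' := EtOver.homMk (Over.homMk (𝟙 _) (by
      show 𝟙 _ ≫ (g.left ≫ V.hom) ≫ U.hom = E.obj.left.hom
      rw [Category.id_comp, Category.assoc]
      exact hw))
    (by
      refine Eq.trans ?_ (EtOver.w h)
      exact yon_comp_eq a (Over.OverMorphism.ext (Category.id_comp _)))
  refine ⟨V', MorphismProperty.Over.homMk g.left rfl,
    ⟨e₁, e₂, EtOver.hom_ext _ _ (Over.OverMorphism.ext (Category.id_comp _)),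
      EtOver.hom_ext _ _ (Over.OverMorphism.ext (Category.id_comp _))⟩,
    EtOver.hom_ext _ _ (Over.OverMorphism.ext (Category.id_comp _))⟩

/-- Morphisms over the chart come from the chart. -/
theorem exists_preimage {V V' : U.left.Etale}
    (g : (EtOver.ofChart a ha).obj V ⟶ (EtOver.ofChart a ha).obj V')
    (h : g ≫ (EtOver.ofChart a ha).map (toTop V') = (EtOver.ofChart a ha).map (toTop V)) :
    ∃ φ : V ⟶ V', (EtOver.ofChart a ha).map φ = g :=
  ⟨MorphismProperty.Over.homMk g.hom.left.left (congrArg (fun m => m.hom.left.left) h),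
    EtOver.hom_ext _ _ (Over.OverMorphism.ext rfl)⟩

variable (x₀ : P.fiber.obj ((EtOver.ofChart a ha).obj (topObj U)))

lemma map_toTop {V V' : U.left.Etale} (φ : V ⟶ V') :
    (EtOver.ofChart a ha).map φ ≫ (EtOver.ofChart a ha).map (toTop V') =
      (EtOver.ofChart a ha).map (toTop V) := by
  rw [← Functor.map_comp]
  congr 1
  exact MorphismProperty.Over.Hom.ext (MorphismProperty.Over.w φ)

/-- The elements over a given element of the chart. -/
noncomputable def resFiber : U.left.Etale ⥤ Type u where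
  obj V := {y : P.fiber.obj ((EtOver.ofChart a ha).obj V) //
    P.fiber.map ((EtOver.ofChart a ha).map (toTop V)) y = x₀}
  map {V V'} φ := TypeCat.ofHom fun y => ⟨P.fiber.map ((EtOver.ofChart a ha).map φ) y.1, by
    rw [map_map, map_toTop]; exact y.2⟩
  map_id V := by
    ext y
    show P.fiber.map ((EtOver.ofChart a ha).map (𝟙 V)) y.1 = y.1
    rw [CategoryTheory.Functor.map_id, CategoryTheory.Functor.map_id]
    rfl
  map_comp φ ψ := by
    ext y
    show P.fiber.map ((EtOver.ofChart a ha).map (φ ≫ ψ)) y.1 =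
      P.fiber.map ((EtOver.ofChart a ha).map ψ) (P.fiber.map ((EtOver.ofChart a ha).map φ) y.1)
    rw [CategoryTheory.Functor.map_comp, map_map]

/-- The inclusion of the neighbourhoods on the chart. -/
noncomputable def resIncl : (resFiber P ha x₀).Elements ⥤ P.fiber.Elements where
  obj c := Functor.elementsMk _ ((EtOver.ofChart a ha).obj c.1) c.2.1
  map {c c'} f := CategoryOfElements.homMk _ _ ((EtOver.ofChart a ha).map f.1)
    (congrArg Subtype.val f.2)
  map_id c := CategoryOfElements.ext _ _ _ ((EtOver.ofChart a ha).map_id _)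
  map_comp f g := CategoryOfElements.ext _ _ _ ((EtOver.ofChart a ha).map_comp _ _)

/-- An element mapping to an element of the chart comes from one. -/
theorem exists_resElement {E : EtOver X} (w : P.fiber.obj E) {V : U.left.Etale}
    (h : E ⟶ (EtOver.ofChart a ha).obj V) (y : (resFiber P ha x₀).obj V)
    (hw : P.fiber.map h w = y.1) :
    ∃ (V' : U.left.Etale) (k : V' ⟶ V) (y' : (resFiber P ha x₀).obj V')
      (e : (EtOver.ofChart a ha).obj V' ≅ E), e.hom ≫ h = (EtOver.ofChart a ha).map k ∧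
        P.fiber.map e.hom y'.1 = w ∧ (resFiber P ha x₀).map k y' = y := by
  obtain ⟨V', k, e, he⟩ := exists_chart_iso ha h
  have h1 : P.fiber.map e.hom (P.fiber.map e.inv w) = w := by
    rw [map_map, e.inv_hom_id, CategoryTheory.Functor.map_id]; rfl
  have h2 : P.fiber.map ((EtOver.ofChart a ha).map k) (P.fiber.map e.inv w) = y.1 := by
    rw [← he, ← map_map, h1, hw]
  refine ⟨V', k, ⟨P.fiber.map e.inv w, ?_⟩, e, he, h1, Subtype.ext h2⟩
  rw [← map_toTop ha k, ← map_map, h2]
  exact y.2

theorem isCofiltered_resFiber : IsCofiltered (resFiber P ha x₀).Elements := by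
  have hne : Nonempty (resFiber P ha x₀).Elements :=
    ⟨Functor.elementsMk _ (topObj U) ⟨x₀, by
      rw [show toTop (topObj U) = 𝟙 _ from MorphismProperty.Over.Hom.ext rfl,
        CategoryTheory.Functor.map_id, CategoryTheory.Functor.map_id]
      rfl⟩⟩
  refine { cone_objs := fun c c' => ?_, cone_maps := fun {c c'} f g => ?_ }
  · obtain ⟨W, w, g₁, g₂, h₁, h₂⟩ := exists_cone P c.2.1 c'.2.1
    obtain ⟨W', w', k, hk, he⟩ := exists_coeq P w
      (g₁ ≫ (EtOver.ofChart a ha).map (toTop c.1)) (g₂ ≫ (EtOver.ofChart a ha).map (toTop c'.1))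
      (by rw [← map_map, ← map_map, h₁, h₂, c.2.2, c'.2.2])
    obtain ⟨V', m, y', e, hem, hew, hy'⟩ := exists_resElement P ha x₀ w' (k ≫ g₁) c.2
      (by rw [← map_map, hk, h₁])
    obtain ⟨φ, hφ⟩ := exists_preimage ha (V := V') (V' := c'.1) (e.hom ≫ k ≫ g₂) (by
      rw [Category.assoc, Category.assoc, ← he, ← Category.assoc k, ← Category.assoc e.hom, hem,
        map_toTop])
    refine ⟨Functor.elementsMk _ V' y', CategoryOfElements.homMk _ _ m hy',
      CategoryOfElements.homMk _ _ φ (Subtype.ext ?_), trivial⟩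
    show P.fiber.map ((EtOver.ofChart a ha).map φ) y'.1 = c'.2.1
    rw [hφ, ← map_map, hew, ← map_map, hk, h₂]
  · obtain ⟨W, w, k, hk, he⟩ := exists_coeq P c.2.1 ((EtOver.ofChart a ha).map f.1)
      ((EtOver.ofChart a ha).map g.1)
      ((congrArg Subtype.val f.2).trans (congrArg Subtype.val g.2).symm)
    obtain ⟨V', m, y', e, hem, -, hy'⟩ := exists_resElement P ha x₀ w k c.2 hk
    refine ⟨Functor.elementsMk _ V' y', CategoryOfElements.homMk _ _ m hy',
      CategoryOfElements.ext _ _ _ ((EtOver.ofChart a ha).map_injective ?_)⟩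
    show (EtOver.ofChart a ha).map (m ≫ f.1) = (EtOver.ofChart a ha).map (m ≫ g.1)
    rw [CategoryTheory.Functor.map_comp, CategoryTheory.Functor.map_comp, ← hem, Category.assoc,
      Category.assoc, he]

theorem initiallySmall_resFiber : InitiallySmall.{u} (resFiber P ha x₀).Elements := by
  have := isCofiltered_resFiber P ha x₀
  have := P.initiallySmall
  obtain ⟨s, hs, hs'⟩ := InitiallySmall.exists_small_weakly_initial_set.{u} P.fiber.Elements
  let T := Σ j : s, {h : j.1.1 ⟶ (EtOver.ofChart a ha).obj (topObj U) // P.fiber.map h j.1.2 = x₀}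
  let x₀' : (resFiber P ha x₀).obj (topObj U) := ⟨x₀, by
      rw [show toTop (topObj U) = 𝟙 _ from MorphismProperty.Over.Hom.ext rfl,
        CategoryTheory.Functor.map_id, CategoryTheory.Functor.map_id]
      rfl⟩
  choose V' m y' e hem hew hy' using fun τ : T =>
    exists_resElement P ha x₀ τ.1.1.2 τ.2.1 x₀' τ.2.2
  refine initiallySmall_of_small_weakly_initial_set
    (Set.range fun τ : T => Functor.elementsMk (resFiber P ha x₀) (V' τ) (y' τ)) fun c => ?_
  obtain ⟨j, hj, ⟨g⟩⟩ := hs' ((resIncl P ha x₀).obj c)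
  have hh : P.fiber.map (g.1 ≫ (EtOver.ofChart a ha).map (toTop c.1)) j.2 = x₀ := by
    rw [← map_map]
    exact (congrArg _ g.2).trans c.2.2
  let τ : T := ⟨⟨j, hj⟩, g.1 ≫ (EtOver.ofChart a ha).map (toTop c.1), hh⟩
  obtain ⟨φ, hφ⟩ := exists_preimage ha (V := V' τ) (V' := c.1) ((e τ).hom ≫ g.1) (by
    rw [Category.assoc]
    refine (hem τ).trans (congrArg _ ?_)
    exact MorphismProperty.Over.Hom.ext ((Category.comp_id _).symm.trans (MorphismProperty.Over.w (m τ))))
  refine ⟨_, ⟨τ, rfl⟩, ⟨CategoryOfElements.homMk _ _ φ (Subtype.ext ?_)⟩⟩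
  show P.fiber.map ((EtOver.ofChart a ha).map φ) (y' τ).1 = c.2.1
  rw [hφ, ← map_map, hew τ]
  exact g.2

/-- The point induced on the chart. -/
noncomputable def resPoint : GrothendieckTopology.Point.{u} U.left.smallEtaleTopology where
  fiber := resFiber P ha x₀
  isCofiltered := isCofiltered_resFiber P ha x₀
  initiallySmall := initiallySmall_resFiber P ha x₀
  jointly_surjective {V} R hR y := by
    choose Z g z hR' hz using (EtaleBase.mem_topology_iff R).1 hR
    obtain ⟨Y, f, hf, w, hw⟩ := P.jointly_surjective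
      (Sieve.ofArrows (fun i => (EtOver.ofChart a ha).obj (Z i))
        fun i => (EtOver.ofChart a ha).map (g i))
      (ofArrows_mem_etTop _ _ fun v => ⟨v, z v, hz v⟩) y.1
    obtain ⟨i, k, hk⟩ := (Sieve.mem_ofArrows_iff _ _ _).1 hf
    refine ⟨Z i, g i, hR' i, ⟨P.fiber.map k w, ?_⟩, Subtype.ext ?_⟩
    · rw [← map_toTop ha (g i), ← map_map, map_map P k, ← hk, hw]
      exact y.2
    · show P.fiber.map ((EtOver.ofChart a ha).map (g i)) (P.fiber.map k w) = y.1
      rw [map_map, ← hk, hw]

theorem initial_resIncl : (resIncl P ha x₀).Initial := by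
  have := isCofiltered_resFiber P ha x₀
  refine Functor.initial_of_exists_of_isCofiltered _ (fun d => ?_) fun {d c} s s' => ?_
  · obtain ⟨W, w, g₁, g₂, h₁, h₂⟩ := exists_cone P x₀ d.2
    obtain ⟨V', m, y', e, -, hew, -⟩ := exists_resElement P ha x₀ w g₁ ⟨x₀, by
      rw [show toTop (topObj U) = 𝟙 _ from MorphismProperty.Over.Hom.ext rfl,
        CategoryTheory.Functor.map_id, CategoryTheory.Functor.map_id]
      rfl⟩ h₁
    refine ⟨Functor.elementsMk _ V' y', ⟨CategoryOfElements.homMk _ _ (e.hom ≫ g₂) ?_⟩⟩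
    show P.fiber.map (e.hom ≫ g₂) y'.1 = d.2
    rw [← map_map, hew, h₂]
  · obtain ⟨W, w, k, hk, he⟩ := exists_coeq P (A := (EtOver.ofChart a ha).obj c.1) c.2.1 s.1 s'.1
      (s.2.trans s'.2.symm)
    obtain ⟨V', m, y', e, hem, -, hy'⟩ := exists_resElement P ha x₀ w k c.2 hk
    refine ⟨Functor.elementsMk _ V' y', CategoryOfElements.homMk _ _ m hy',
      CategoryOfElements.ext _ _ _ ?_⟩
    show (EtOver.ofChart a ha).map m ≫ s.1 = (EtOver.ofChart a ha).map m ≫ s'.1
    rw [← hem, Category.assoc, Category.assoc, he]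

/-- Isomorphic functors have equivalent categories of elements. -/
theorem initial_mapElements {C : Type*} [Category C] {F G : C ⥤ Type u} (φ : F ≅ G) :
    (NatTrans.mapElements φ.hom).Initial := by
  have : (NatTrans.mapElements φ.hom).IsEquivalence :=
    (Cat.equivOfIso (Functor.elementsFunctor.mapIso φ)).isEquivalence_functor
  infer_instance

lemma geom_apply {Y : Scheme.{u}} (y : Y) (Ω : Type u) [Field Ω]
    (f : Spec (CommRingCat.of Ω) ⟶ Spec (Y.residueField y)) :
    (f ≫ Y.fromSpecResidueField y).base default = y := by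
  generalize (default : ↥(Spec (CommRingCat.of Ω))) = z
  exact (Scheme.Hom.comp_apply f (Y.fromSpecResidueField y) z).trans
    (Scheme.fromSpecResidueField_apply y (f z))

/-- A point of the small etale site of a scheme, by an algebraically closed field. -/
theorem exists_algClosed_point {Y : Scheme.{u}} (Q : GrothendieckTopology.Point.{u} Y.smallEtaleTopology) :
    ∃ (Ω : Type u) (_ : Field Ω) (_ : IsAlgClosed Ω) (ξ : Spec (CommRingCat.of Ω) ⟶ Y),
      Nonempty (Q.fiber ≅ (Scheme.pointSmallEtale ξ).fiber) := by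
  obtain ⟨u₀, hu₀⟩ := EtaleBase.SitePt.exists_base Q
  suffices ∀ (Ω : Type u) [Field Ω] [IsAlgClosed Ω]
      (f : Spec (CommRingCat.of Ω) ⟶ Spec (Y.residueField u₀)),
      ∃ (Ω : Type u) (_ : Field Ω) (_ : IsAlgClosed Ω) (ξ : Spec (CommRingCat.of Ω) ⟶ Y),
        Nonempty (Q.fiber ≅ (Scheme.pointSmallEtale ξ).fiber) from
    this (AlgebraicClosure (Y.residueField u₀))
      (Spec.map (CommRingCat.ofHom (algebraMap (Y.residueField u₀) (AlgebraicClosure (Y.residueField u₀)))))
  intro Ω _ _ f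
  have hξ : ∀ (V : Y.Etale) (x : Q.fiber.obj V),
      V.hom.base (EtaleBase.SitePt.pt Q V x) = (f ≫ Y.fromSpecResidueField u₀).base default :=
    fun V x => (hu₀ V x).trans (geom_apply u₀ Ω f).symm
  obtain ⟨θ, hθ⟩ := EtaleBase.SitePt.exists_natTrans Q (f ≫ Y.fromSpecResidueField u₀) hξ
  have : ∀ V, IsIso (θ.app V) := fun V => (CategoryTheory.isIso_iff_bijective _).2
    ⟨EtaleBase.SitePt.injective_app Q _ θ hθ V, EtaleBase.SitePt.surjective_app Q _ θ hθ V⟩
  have := NatIso.isIso_of_isIso_app θ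
  exact ⟨Ω, inferInstance, inferInstance, f ≫ Y.fromSpecResidueField u₀, ⟨asIso θ⟩⟩

theorem exists_geometric (hX : IsAlgSpace X) :
    ∃ p : FieldPt X, p.IsGeometric ∧
      Nonempty (P.sheafFiber (A := Type (u + 1)) ≅ stalkEtFunctor (Type (u + 1)) p) := by
  obtain ⟨U, a, ha, has⟩ := hX.atlas
  obtain ⟨x₀⟩ := exists_base P a ha has
  obtain ⟨Ω, _, _, ξ, ⟨θ⟩⟩ := exists_algClosed_point (resPoint P ha x₀)
  let t : Over.mk (ξ ≫ U.hom) ⟶ U := Over.homMk ξ rfl
  let p : FieldPt X :=
    { K := Ω
      str := ξ ≫ U.hom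
      val := (J S).uliftYonedaEquiv ((yon S).map t ≫ a) }
  have ht : (yon S).map t ≫ a = p.toHom := ((J S).uliftYonedaEquiv.symm_apply_apply _).symm
  have hp : p.IsGeometric := ‹IsAlgClosed Ω›
  have : IsAlgClosed p.K := hp
  refine ⟨p, hp, ?_⟩
  let F₂ := chartFun p ha t ht
  have hF₂ : F₂.Initial := initial_chartFun p ha t ht
  let F₁ : (Scheme.pointSmallEtale (chartPt p t)).fiber.Elements ⥤ P.fiber.Elements :=
    NatTrans.mapElements θ.symm.hom ⋙ resIncl P ha x₀
  have hF₁ : F₁.Initial := by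
    have := initial_mapElements θ.symm
    have := initial_resIncl P ha x₀
    exact Functor.initial_comp _ _
  have e : F₁ ⋙ CategoryOfElements.π P.fiber ≅ F₂ ⋙ CategoryOfElements.π (FieldPt.liftsTo p) :=
    NatIso.ofComponents (fun _ => Iso.refl _) fun {c c'} f => by
      simp [F₁, F₂, chartFun, resIncl, NatTrans.mapElements, CategoryOfElements.π]
      rfl
  have : HasColimitsOfShape (Scheme.pointSmallEtale (chartPt p t)).fiber.Elementsᵒᵖ (Type (u + 1)) :=
    inferInstance
  let W := fun {K : Type (u + 1)} [Category.{u} K] (G : K ⥤ EtOver X) =>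
    (Functor.whiskeringLeft _ _ (Type (u + 1))).obj G.op
  refine ⟨Functor.isoWhiskerLeft (sheafToPresheaf (etTop X) (Type (u + 1))) ?_⟩
  exact Functor.isoWhiskerLeft (W (CategoryOfElements.π P.fiber))
      (Functor.Final.colimIso F₁.op).symm ≪≫
    Functor.isoWhiskerRight ((Functor.whiskeringLeft _ _ (Type (u + 1))).mapIso (NatIso.op e.symm))
      colim ≪≫
    Functor.isoWhiskerLeft (W (CategoryOfElements.π (FieldPt.liftsTo p)))
      (Functor.Final.colimIso F₂.op)

end Groth.AlgSpEt.PtGeom
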