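import Groth.Agent.AlgSpEt.StrictLocal
import Groth.Agent.Hensel1.EtaleTransfer

/-!
# The etale local ring is a strict henselization: proof
-/

set_option autoImplicit false
set_option backward.isDefEq.respectTransparency false

universe u

open CategoryTheory CategoryTheory.Limits AlgebraicGeometry Opposite IsLocalRing
open Groth.EtaleBase Groth.EtaleBase.EtLocalRing Groth.AlgSpEt.StrictLocal

namespace Groth.AlgSpEt.StrictHens

theorem isSeparable_of_essentiallyEtale {A B : Type u} [CommRing A] [IsLocalRing A]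
    [CommRing B] [IsLocalRing B] [Algebra A B] [IsLocalHom (algebraMap A B)]
    (h : EGA4loc.IsEssentiallyEtale A B) : Algebra.IsSeparable (ResidueField A) (ResidueField B) := by
  obtain ⟨C, _, _, q, _, _, -, ⟨e⟩⟩ := h
  have : Algebra.FormallyUnramified C (Localization.AtPrime q) := .of_isLocalization q.primeCompl
  have : Algebra.FormallyUnramified A (Localization.AtPrime q) := .comp A C _
  have : Algebra.EssFiniteType C (Localization.AtPrime q) := .of_isLocalization _ q.primeCompl
  have : Algebra.EssFiniteType A (Localization.AtPrime q) := .comp A C _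
  have : Algebra.FormallyUnramified A B := Algebra.FormallyUnramified.of_equiv e.symm
  have : Algebra.EssFiniteType A B := Algebra.EssFiniteType.of_surjective e.symm.toAlgHom e.symm.surjective
  infer_instance

variable {X : Scheme.{u}} {Ω : Type u} [Field Ω] [IsSepClosed Ω] (ξ : Spec (CommRingCat.of Ω) ⟶ X)

set_option quotPrecheck false in
local notation "fib" => (Scheme.pointSmallEtale ξ).fiber

theorem isLocalHom_toEtale : IsLocalHom (toEtale ξ).hom := isLocalHom_stalkTo ξ (topPt ξ)

theorem existsUnique_nbhdLift {T : Type u} [CommRing T] [HenselianLocalRing T] (f : Base ξ →+* T)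
    (τ : ResidueField (EtBase.etaleLocalRing ξ) →+* ResidueField T)
    (hτ : ∀ a, τ (residue _ (toEtale ξ a)) = residue T (f a)) {U : X.Etale} (t : (fib).obj U) :
    ∃! ψ : U.left.presheaf.stalk (fiberPoint ξ t) →+* T, ψ.comp (toNbhd ξ t).hom = f ∧
      ∀ x, residue T (ψ x) = τ (residue _ (stalkTo ξ t x)) := by
  let _ := (toNbhd ξ t).hom.toAlgebra
  have : IsLocalHom (algebraMap (Base ξ) (U.left.presheaf.stalk (fiberPoint ξ t))) := isLocalHom_toNbhd ξ t
  have : IsLocalHom (stalkTo ξ t).hom := isLocalHom_stalkTo ξ t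
  exact Groth.Hensel1.existsUnique_ringHom_of_essentiallyEtale (isEssentiallyEtale_toNbhd ξ t) f
    (τ.comp (ResidueField.map (stalkTo ξ t).hom)) fun a => by
      rw [← hτ, ← toNbhd_stalkTo ξ t]
      rfl

theorem universal (T : Type u) [CommRing T] [HenselianLocalRing T] (f : Base ξ →+* T)
    (τ : ResidueField (EtBase.etaleLocalRing ξ) →+* ResidueField T)
    (hτ : ∀ a, τ (residue _ (toEtale ξ a)) = residue T (f a)) :
    ∃! g : EtBase.etaleLocalRing ξ →+* T, g.comp (toEtale ξ).hom = f ∧
      ∀ x, residue T (g x) = τ (residue _ x) := by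
  choose ψ hψ hu using fun (U : X.Etale) (t : (fib).obj U) => existsUnique_nbhdLift ξ f τ hτ t
  have hnat : ∀ {U V : X.Etale} (k : V ⟶ U) (s : (fib).obj V),
      (ψ V s).comp (k.left.stalkMap (fiberPoint ξ s)).hom = ψ U ((fib).map k s) := fun {U V} k s => by
    refine hu U ((fib).map k s) ((ψ V s).comp (k.left.stalkMap (fiberPoint ξ s)).hom) ⟨?_, fun x => ?_⟩
    · rw [← (hψ V s).1, RingHom.comp_assoc, ← toNbhd_stalkMap ξ k s]
      rfl
    · rw [RingHom.comp_apply, (hψ V s).2, ← stalkMap_stalkTo ξ k s]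
      rfl
  let φ : ∀ (U : X.Etale) (_ : (fib).obj U), Γ(U.left, ⊤) ⟶ CommRingCat.of T := fun U t =>
    U.left.presheaf.germ ⊤ (fiberPoint ξ t) trivial ≫ CommRingCat.ofHom (ψ U t)
  let g₀ : EtBase.etaleLocalRing ξ ⟶ CommRingCat.of T :=
    (Scheme.pointSmallEtale ξ).presheafFiberDesc (P := EtBase.OO X) φ (fun {V U} k s => by
      refine CommRingCat.hom_ext (RingHom.ext fun σ => ?_)
      show ψ V s (V.left.presheaf.germ ⊤ _ trivial (k.left.appTop σ)) =
        ψ U ((fib).map k s) (U.left.presheaf.germ ⊤ _ trivial σ)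
      rw [← hnat k s, RingHom.comp_apply]
      congr 1
      exact (Scheme.Hom.germ_stalkMap_apply k.left ⊤ (fiberPoint ξ s) trivial σ).symm)
  have hgm : ∀ (U : X.Etale) (t : (fib).obj U), gm ξ U t ≫ g₀ = φ U t := fun U t =>
    (Scheme.pointSmallEtale ξ).toPresheafFiber_presheafFiberDesc _ _ U t
  have hψg : ∀ (U : X.Etale) (t : (fib).obj U), stalkTo ξ t ≫ g₀ = CommRingCat.ofHom (ψ U t) := by
    intro U t
    refine TopCat.Presheaf.stalk_hom_ext _ fun W hW => ?_
    obtain ⟨s, rfl⟩ := exists_openLift ξ t W hW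
    erw [germ_stalkTo_assoc ξ ((fib).map (openHom U W) s) W hW,
      ← gmAt_eq_germTo ξ (openHom U W) s W (openHom_range U W)]
    refine CommRingCat.hom_ext (RingHom.ext fun σ => ?_)
    show g₀ (gm ξ (openObj U W) s ((openHom U W).left.appLE W ⊤ (openHom_range U W) σ)) =
      ψ U ((fib).map (openHom U W) s) (U.left.presheaf.germ W _ hW σ)
    rw [← hnat (openHom U W) s, RingHom.comp_apply]
    refine (ConcreteCategory.congr_hom (hgm (openObj U W) s) _).trans ?_
    show ψ (openObj U W) s ((openObj U W).left.presheaf.germ ⊤ _ trivial _) = _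
    congr 1
    erw [Scheme.Hom.germ_stalkMap_apply]
    exact TopCat.Presheaf.germ_res_apply _ _ _ _ _
  refine ⟨g₀.hom, ⟨?_, fun x => ?_⟩, fun g' hg' => ?_⟩
  · have h1 := (hψ topObj (topPt ξ)).1
    have h2 : (toEtale ξ) ≫ g₀ = CommRingCat.ofHom f := by
      refine Eq.trans (hψg topObj (topPt ξ)) ?_
      refine CommRingCat.hom_ext (RingHom.ext fun a => ?_)
      show ψ topObj (topPt ξ) a = f a
      rw [← h1, RingHom.comp_apply]
      congr 1
      show a = (toNbhd ξ (topPt ξ)).hom a
      have h0 : ∀ (h : ξ default ⤳ ξ default),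
          X.presheaf.stalkSpecializes h ≫ Scheme.Hom.stalkMap (𝟙 X) (ξ default) = 𝟙 _ := fun h => by
        erw [TopCat.Presheaf.stalkSpecializes_refl, Category.id_comp, Scheme.Hom.stalkMap_id]
      exact (ConcreteCategory.congr_hom (h0 _) a).symm
    exact congrArg CommRingCat.Hom.hom h2
  · obtain ⟨U, t, b, rfl⟩ := exists_stalkTo_eq ξ x
    exact (congrArg (residue T) (ConcreteCategory.congr_hom (hψg U t) b)).trans ((hψ U t).2 b)
  · refine RingHom.ext fun x => ?_
    obtain ⟨U, t, b, rfl⟩ := exists_stalkTo_eq ξ x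
    have h3 : g'.comp (stalkTo ξ t).hom = ψ U t := hu U t _
      ⟨by
        rw [RingHom.comp_assoc, ← hg'.1, ← toNbhd_stalkTo ξ t]
        rfl, fun y => hg'.2 _⟩
    exact (RingHom.congr_fun h3 b).trans (ConcreteCategory.congr_hom (hψg U t) b).symm

theorem isSeparable_residue :
    letI := isLocalHom_toEtale ξ
    letI := (ResidueField.map (toEtale ξ).hom).toAlgebra
    Algebra.IsSeparable (ResidueField (Base ξ)) (ResidueField (EtBase.etaleLocalRing ξ)) := by
  let _ := isLocalHom_toEtale ξ
  let _ := (ResidueField.map (toEtale ξ).hom).toAlgebra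
  refine ⟨fun z => ?_⟩
  obtain ⟨a, rfl⟩ := residue_surjective z
  obtain ⟨U, t, b, rfl⟩ := exists_stalkTo_eq ξ a
  let _ := (toNbhd ξ t).hom.toAlgebra
  have : IsLocalHom (algebraMap (Base ξ) (U.left.presheaf.stalk (fiberPoint ξ t))) := isLocalHom_toNbhd ξ t
  have : IsLocalHom (stalkTo ξ t).hom := isLocalHom_stalkTo ξ t
  have := isSeparable_of_essentiallyEtale (isEssentiallyEtale_toNbhd ξ t)
  let e : ResidueField (U.left.presheaf.stalk (fiberPoint ξ t)) →ₐ[ResidueField (Base ξ)]
      ResidueField (EtBase.etaleLocalRing ξ) :=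
    { ResidueField.map (stalkTo ξ t).hom with
      commutes' := fun r => by
        obtain ⟨r, rfl⟩ := residue_surjective r
        show residue _ (stalkTo ξ t ((toNbhd ξ t).hom r)) = residue _ (toEtale ξ r)
        rw [← toNbhd_stalkTo ξ t]
        rfl }
  exact IsSeparable.map (x := residue _ b) e e.toRingHom.injective
    (Algebra.IsSeparable.isSeparable _ _)

/-- The etale local ring at a geometric point is a strict henselization of the local ring. -/
theorem isStrictHenselization :
    letI := (toEtale ξ).hom.toAlgebra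
    ∃ _ : IsLocalHom (algebraMap (Base ξ) (EtBase.etaleLocalRing ξ)),
      Hensel.IsStrictHenselization (Base ξ) (EtBase.etaleLocalRing ξ) := by
  let _ := (toEtale ξ).hom.toAlgebra
  have hloc : IsLocalHom (algebraMap (Base ξ) (EtBase.etaleLocalRing ξ)) := isLocalHom_toEtale ξ
  obtain ⟨hh, hs⟩ := EtLocalRing.isStrictlyHenselian ξ
  refine ⟨hloc, hh, ⟨hs, ?_⟩, fun T _ _ f _ τ hτ =>
    universal ξ T f τ fun a => RingHom.congr_fun hτ (residue _ a)⟩
  convert isSeparable_residue ξ using 1
  · rfl
  refine Algebra.algebra_ext _ _ fun r => ?_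
  obtain ⟨a, rfl⟩ := residue_surjective (R := Base ξ) r
  rfl

end Groth.AlgSpEt.StrictHens
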