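import Groth.Agent.AlgSpEt.Chart
import Groth.Agent.AlgSpEt.StrictHens
import Mathlib.Algebra.Category.Ring.FilteredColimits
import Mathlib.CategoryTheory.Limits.Preserves.Ulift
import Mathlib.CategoryTheory.Limits.Final

/-!
# The etale local ring of an algebraic space is that of a chart
-/

set_option autoImplicit false
set_option backward.isDefEq.respectTransparency false

universe u

open CategoryTheory CategoryTheory.Limits AlgebraicGeometry Opposite AlgSp

namespace Groth.AlgSpEt

/-- Raising the universe of commutative rings. -/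
def ringUlift : CommRingCat.{u} ⥤ CommRingCat.{u + 1} where
  obj R := CommRingCat.of (ULift.{u + 1} R)
  map f := CommRingCat.ofHom (ULift.ringEquiv.symm.toRingHom.comp (f.hom.comp ULift.ringEquiv.toRingHom))

instance : HasColimitsOfSize.{u, u} CommRingCat.{u + 1} := hasColimitsOfSizeShrink.{u, u, u + 1, u + 1} _

instance : PreservesFilteredColimitsOfSize.{u, u} (forget CommRingCat.{u + 1}) :=
  preservesFilteredColimitsOfSize_of_univLE.{u + 1, u + 1, u, u} _

instance : PreservesFilteredColimitsOfSize.{u, u} ringUlift.{u} where
  preserves_filtered_colimits J _ _ := by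
    have : PreservesColimitsOfShape J (ringUlift.{u} ⋙ forget CommRingCat.{u + 1}) :=
      inferInstanceAs (PreservesColimitsOfShape J (forget CommRingCat.{u} ⋙ uliftFunctor.{u + 1}))
    have : ReflectsColimitsOfShape J (forget CommRingCat.{u + 1}) :=
      reflectsColimitsOfShape_of_reflectsIsomorphisms
    exact preservesColimitsOfShape_of_reflects_of_preserves _ (forget CommRingCat.{u + 1})

variable {S : Scheme.{u}} {X : Sp S} (p : FieldPt X) [IsSepClosed p.K] {U : Over S}
  {a : (yon S).obj U ⟶ X} (ha : RepWith @Etale a) (t : p.pt ⟶ U) (ht : (yon S).map t ≫ a = p.toHom)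

include ha ht in
/-- The etale local ring of the space at a geometric point is that of a chart. -/
theorem nonempty_OEtStalk_equiv :
    Nonempty (↥(EtBase.etaleLocalRing (chartPt p t)) ≃+* ↥(OEtStalk p)) := by
  have := initial_chartFun p ha t ht
  let D := stalkEtDiagram p (OEt X)
  have e₁ : colimit ((chartFun p ha t ht).op ⋙ D) ≅ colimit D :=
    Functor.Final.colimitIso (chartFun p ha t ht).op D
  have e₂ := ((Scheme.pointSmallEtale (chartPt p t)).presheafFiberCompIso ringUlift.{u}).app
    (EtBase.OO U.left)
  let e : ringUlift.{u}.obj (EtBase.etaleLocalRing (chartPt p t)) ≅ OEtStalk p := e₂.symm ≪≫ e₁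
  exact ⟨ULift.ringEquiv.symm.trans e.commRingCatIsoToRingEquiv⟩

end Groth.AlgSpEt
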