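import Groth.Agent.EtaleBase.EtaleLocalRing
import Groth.Agent.Hensel1.EssEt
import Groth.Agent.Hensel1.EtaleStalk

/-!
# The etale local ring is a strict henselization of the local ring
-/

set_option autoImplicit false
set_option backward.isDefEq.respectTransparency false

universe u

open CategoryTheory CategoryTheory.Limits AlgebraicGeometry Opposite TopologicalSpace IsLocalRing
open Groth.EtaleBase Groth.EtaleBase.EtLocalRing

namespace Groth.AlgSpEt.StrictLocal

variable {X : Scheme.{u}} {Ω : Type u} [Field Ω] [IsSepClosed Ω] (ξ : Spec (CommRingCat.of Ω) ⟶ X)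

set_option quotPrecheck false in
local notation "fib" => (Scheme.pointSmallEtale ξ).fiber

theorem appLE_appTop {A B C : Scheme.{u}} (f : A ⟶ B) (g : B ⟶ C) (W : C.Opens) (e : ⊤ ≤ g ⁻¹ᵁ W) :
    g.appLE W ⊤ e ≫ f.appTop = (f ≫ g).appLE W ⊤ (fun x _ => e (x := f x) trivial) := by
  rw [← Scheme.Hom.appLE_comp_appLE f g W ⊤ ⊤ e le_top]
  simp [Scheme.Hom.appLE, Scheme.Hom.appTop]

theorem app_appLE {A B C : Scheme.{u}} (f : A ⟶ B) (g : B ⟶ C) (W : C.Opens) (e : ⊤ ≤ f ⁻¹ᵁ (g ⁻¹ᵁ W)) :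
    g.app W ≫ f.appLE (g ⁻¹ᵁ W) ⊤ e = (f ≫ g).appLE W ⊤ e := by
  rw [← Scheme.Hom.appLE_comp_appLE f g W (g ⁻¹ᵁ W) ⊤ le_rfl e, Scheme.Hom.app_eq_appLE]

/-- A section near the image of a neighbourhood, in the etale local ring. -/
noncomputable def gmAt {U Z : X.Etale} (g : Z ⟶ U) (z : (fib).obj Z) (W : U.left.Opens)
    (e : ⊤ ≤ g.left ⁻¹ᵁ W) : Γ(U.left, W) ⟶ EtBase.etaleLocalRing ξ :=
  g.left.appLE W ⊤ e ≫ gm ξ Z z

theorem gmAt_comp {U Z Z' : X.Etale} (h : Z' ⟶ Z) (g : Z ⟶ U) (z : (fib).obj Z') (W : U.left.Opens)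
    (e : ⊤ ≤ g.left ⁻¹ᵁ W) :
    gmAt ξ g ((fib).map h z) W e = gmAt ξ (h ≫ g) z W (fun _ _ => e trivial) := by
  have h1 : h.left.appTop ≫ gm ξ Z' z = gm ξ Z ((fib).map h z) :=
    (Scheme.pointSmallEtale ξ).toPresheafFiber_w h z (EtBase.OO X)
  rw [gmAt, gmAt, ← h1, ← Category.assoc]
  congr 1
  show _ = (h.left ≫ g.left).appLE W ⊤ _
  exact appLE_appTop h.left g.left W e

theorem mem_of_fiberPoint {U Z : X.Etale} (g : Z ⟶ U) (z : (fib).obj Z) (W : U.left.Opens)
    (e : ⊤ ≤ g.left ⁻¹ᵁ W) : fiberPoint ξ ((fib).map g z) ∈ W :=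
  e (x := fiberPoint ξ z) trivial

/-- The lift of the geometric point to an open subscheme. -/
theorem exists_openLift {U : X.Etale} (t : (fib).obj U) (W : U.left.Opens) (h : fiberPoint ξ t ∈ W) :
    ∃ t' : (fib).obj (openObj U W), (fib).map (openHom U W) t' = t := by
  obtain ⟨s, hs, -⟩ := exists_fiber_lift ξ (openHom U W) t ⟨_, h⟩ rfl
  exact ⟨s, hs⟩

theorem openHom_range (U : X.Etale) (W : U.left.Opens) : ⊤ ≤ (openHom U W).left ⁻¹ᵁ W :=
  (Scheme.Opens.ι_preimage_self W).ge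

/-- The germ at a lift of the geometric point of a section on an open. -/
noncomputable def germTo {U : X.Etale} (t : (fib).obj U) (W : U.left.Opens) (h : fiberPoint ξ t ∈ W) :
    Γ(U.left, W) ⟶ EtBase.etaleLocalRing ξ :=
  gmAt ξ (openHom U W) (exists_openLift ξ t W h).choose W (openHom_range U W)

theorem gmAt_eq_germTo {U Z : X.Etale} (g : Z ⟶ U) (z : (fib).obj Z) (W : U.left.Opens)
    (e : ⊤ ≤ g.left ⁻¹ᵁ W) :
    gmAt ξ g z W e = germTo ξ ((fib).map g z) W (mem_of_fiberPoint ξ g z W e) := by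
  have hr : Set.range g.left ⊆ Set.range (W.ι) := by
    rw [Scheme.Opens.range_ι]
    rintro _ ⟨y, rfl⟩
    exact e (x := y) trivial
  let l : Z.left ⟶ W.toScheme := IsOpenImmersion.lift W.ι g.left hr
  have hl : l ≫ W.ι = g.left := IsOpenImmersion.lift_fac _ _ _
  let k : Z ⟶ openObj U W := MorphismProperty.Over.homMk l (by
    show l ≫ W.ι ≫ U.hom = Z.hom
    rw [reassoc_of% hl]
    exact MorphismProperty.Over.w g)
  have hk : k ≫ openHom U W = g := MorphismProperty.Over.Hom.ext hl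
  have hspec := (exists_openLift ξ ((fib).map g z) W (mem_of_fiberPoint ξ g z W e)).choose_spec
  have hz : (exists_openLift ξ ((fib).map g z) W (mem_of_fiberPoint ξ g z W e)).choose = (fib).map k z := by
    refine Over.OverMorphism.ext ((cancel_mono W.ι).1 ?_)
    refine Eq.trans (congrArg (fun f => f.left) hspec) ?_
    show z.left ≫ g.left = (z.left ≫ l) ≫ W.ι
    rw [Category.assoc, hl]
  rw [germTo, hz, gmAt_comp]
  congr 1
  exact hk.symm

theorem res_germTo {U : X.Etale} (t : (fib).obj U) {W W' : U.left.Opens} (hle : W' ≤ W)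
    (h' : fiberPoint ξ t ∈ W') (h : fiberPoint ξ t ∈ W) :
    U.left.presheaf.map (homOfLE hle).op ≫ germTo ξ t W' h' = germTo ξ t W h := by
  obtain ⟨s, rfl⟩ := exists_openLift ξ t W' h'
  rw [← gmAt_eq_germTo ξ (openHom U W') s W' (openHom_range U _),
    ← gmAt_eq_germTo ξ (openHom U W') s W ((openHom_range U _).trans (fun _ hx => hle hx)),
    gmAt, gmAt, ← Category.assoc]
  congr 1
  exact Scheme.Hom.map_appLE _ _ _

/-- The map from the local ring of a neighbourhood to the etale local ring. -/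
noncomputable def stalkTo {U : X.Etale} (t : (fib).obj U) :
    U.left.presheaf.stalk (fiberPoint ξ t) ⟶ EtBase.etaleLocalRing ξ :=
  colimit.desc ((OpenNhds.inclusion (fiberPoint ξ t)).op ⋙ U.left.presheaf)
    { pt := EtBase.etaleLocalRing ξ
      ι :=
        { app := fun W => germTo ξ t W.unop.1 W.unop.2
          naturality := fun W W' i => by
            dsimp
            rw [Category.comp_id]
            exact res_germTo ξ t i.unop.le W'.unop.2 W.unop.2 } }

@[reassoc]
theorem germ_stalkTo {U : X.Etale} (t : (fib).obj U) (W : U.left.Opens) (h : fiberPoint ξ t ∈ W) :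
    U.left.presheaf.germ W (fiberPoint ξ t) h ≫ stalkTo ξ t = germTo ξ t W h :=
  colimit.ι_desc _ (op (⟨W, h⟩ : OpenNhds (fiberPoint ξ t)))

theorem germ_top_stalkTo {U : X.Etale} (t : (fib).obj U) :
    U.left.presheaf.germ ⊤ (fiberPoint ξ t) trivial ≫ stalkTo ξ t = gm ξ U t := by
  rw [germ_stalkTo]
  have h : (fib).map (𝟙 U) t = t := by simp
  have := gmAt_eq_germTo ξ (𝟙 U) t ⊤ (fun _ _ => trivial)
  rw [gmAt] at this
  simp only [h] at this
  rw [← this]
  show (𝟙 U.left : U.left ⟶ U.left).appLE ⊤ ⊤ _ ≫ _ = _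
  simp [Scheme.Hom.appLE]

theorem stalkMap_stalkTo {U V : X.Etale} (k : V ⟶ U) (s : (fib).obj V) :
    k.left.stalkMap (fiberPoint ξ s) ≫ stalkTo ξ s = stalkTo ξ ((fib).map k s) := by
  refine TopCat.Presheaf.stalk_hom_ext _ fun W hW => ?_
  erw [Scheme.Hom.germ_stalkMap_assoc, germ_stalkTo ξ s, germ_stalkTo ξ ((fib).map k s)]
  obtain ⟨r, hr⟩ := exists_openLift ξ s (k.left ⁻¹ᵁ W) hW
  subst hr
  rw [← gmAt_eq_germTo ξ (openHom V (k.left ⁻¹ᵁ W)) r _ (openHom_range V _)]
  have h := gmAt_eq_germTo ξ (openHom V (k.left ⁻¹ᵁ W) ≫ k) r W (openHom_range V _)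
  simp only [Functor.map_comp, CategoryTheory.comp_apply] at h
  refine Eq.trans ?_ h
  rw [gmAt, gmAt, ← Category.assoc]
  congr 1

theorem exists_stalkTo_eq (a : EtBase.etaleLocalRing ξ) :
    ∃ (U : X.Etale) (t : (fib).obj U) (b : U.left.presheaf.stalk (fiberPoint ξ t)),
      stalkTo ξ t b = a := by
  obtain ⟨U, t, σ, hσ⟩ := (Scheme.pointSmallEtale ξ).toPresheafFiber_jointly_surjective (P := EtBase.OO X) a
  exact ⟨U, t, U.left.presheaf.germ ⊤ _ trivial σ,
    (ConcreteCategory.congr_hom (germ_top_stalkTo ξ t) σ).trans hσ⟩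

theorem isLocalHom_stalkTo {U : X.Etale} (t : (fib).obj U) : IsLocalHom (stalkTo ξ t).hom := by
  refine ⟨fun b hb => ?_⟩
  obtain ⟨W, hW, σ, rfl⟩ := U.left.presheaf.exists_germ_eq b
  obtain ⟨s, rfl⟩ := exists_openLift ξ t W hW
  have h1 : (stalkTo ξ ((fib).map (openHom U W) s)).hom (U.left.presheaf.germ W _ hW σ) =
      gm ξ (openObj U W) s ((openHom U W).left.appLE W ⊤ (openHom_range U W) σ) := by
    refine (ConcreteCategory.congr_hom (germ_stalkTo ξ _ W hW) σ).trans ?_
    rw [← gmAt_eq_germTo ξ (openHom U W) s W (openHom_range U W)]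
    rfl
  rw [h1, isUnit_iff_ev_ne_zero, ev_gm] at hb
  have h2 := mem_basicOpen_of_evAt_ne_zero ξ _ s _ hb
  rw [Scheme.Hom.appLE, CommRingCat.comp_apply, Scheme.basicOpen_res] at h2
  have h3 : fiberPoint ξ s ∈ (openHom U W).left ⁻¹ᵁ U.left.basicOpen σ := by
    rw [Scheme.preimage_basicOpen]; exact h2.2
  exact (U.left.mem_basicOpen σ _ hW).1 h3

/-- The local ring at the image of the geometric point. -/
noncomputable abbrev Base : CommRingCat.{u} := X.presheaf.stalk (ξ default)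

/-- The trivial neighbourhood. -/
noncomputable abbrev topObj : X.Etale := Scheme.Etale.mk (𝟙 X)

/-- The trivial lift. -/
noncomputable abbrev topPt : (fib).obj (topObj (X := X)) := Over.homMk ξ (Category.comp_id _)

/-- The structure map to the etale local ring. -/
noncomputable def toEtale : Base ξ ⟶ EtBase.etaleLocalRing ξ := stalkTo ξ (topPt ξ)

/-- The structure map of the local ring of a neighbourhood. -/
noncomputable def toNbhd {U : X.Etale} (t : (fib).obj U) :
    Base ξ ⟶ U.left.presheaf.stalk (fiberPoint ξ t) :=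
  X.presheaf.stalkSpecializes (specializes_of_eq (hom_fiberPoint ξ t)) ≫ U.hom.stalkMap (fiberPoint ξ t)

theorem toNbhd_stalkTo {U : X.Etale} (t : (fib).obj U) : toNbhd ξ t ≫ stalkTo ξ t = toEtale ξ := by
  let k : U ⟶ topObj := MorphismProperty.Over.homMk U.hom (Category.comp_id _)
  have hk : (fib).map k t = topPt ξ := Over.OverMorphism.ext (Over.w t)
  have key : ∀ (t' : (fib).obj (topObj (X := X))) (e : (fib).map k t = t'),
      X.presheaf.stalkSpecializes (specializes_of_eq (congrArg (fiberPoint ξ) e)) ≫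
        U.hom.stalkMap (fiberPoint ξ t) ≫ stalkTo ξ t = stalkTo ξ t' := by
    rintro _ rfl
    erw [TopCat.Presheaf.stalkSpecializes_refl, Category.id_comp]
    exact stalkMap_stalkTo ξ k t
  rw [toNbhd, Category.assoc]
  exact key _ hk

theorem toNbhd_stalkMap {U V : X.Etale} (k : V ⟶ U) (s : (fib).obj V) :
    toNbhd ξ ((fib).map k s) ≫ k.left.stalkMap (fiberPoint ξ s) = toNbhd ξ s := by
  have key : ∀ (f : V.left ⟶ X) (_ : f = k.left ≫ U.hom) (h : f (fiberPoint ξ s) ⤳ ξ default)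
      (h' : (k.left ≫ U.hom) (fiberPoint ξ s) ⤳ ξ default),
      X.presheaf.stalkSpecializes h ≫ f.stalkMap (fiberPoint ξ s) =
        X.presheaf.stalkSpecializes h' ≫ (k.left ≫ U.hom).stalkMap (fiberPoint ξ s) := by
    rintro _ rfl _ _; rfl
  rw [toNbhd, toNbhd, key V.hom (MorphismProperty.Over.w k).symm _
    (specializes_of_eq ((congrArg (fun f => f.base (fiberPoint ξ s)) (MorphismProperty.Over.w k)).trans
      (hom_fiberPoint ξ s))), Scheme.Hom.stalkMap_comp]
  rfl

theorem isEssentiallyEtale_toNbhd {U : X.Etale} (t : (fib).obj U) :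
    letI := (toNbhd ξ t).hom.toAlgebra
    EGA4loc.IsEssentiallyEtale (Base ξ) (U.left.presheaf.stalk (fiberPoint ξ t)) := by
  have : Etale U.hom := U.prop
  have key : ∀ (y : X) (e : U.hom (fiberPoint ξ t) = y),
      @EGA4loc.IsEssentiallyEtale (X.presheaf.stalk y) (U.left.presheaf.stalk (fiberPoint ξ t)) _ _ _
        (X.presheaf.stalkSpecializes (specializes_of_eq e) ≫ U.hom.stalkMap (fiberPoint ξ t)).hom.toAlgebra := by
    rintro _ rfl
    erw [TopCat.Presheaf.stalkSpecializes_refl, Category.id_comp]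
    exact Groth.Hensel1.isEssentiallyEtale_stalkMap_of_etale U.hom _
  exact key _ (hom_fiberPoint ξ t)

theorem isLocalHom_toNbhd {U : X.Etale} (t : (fib).obj U) : IsLocalHom (toNbhd ξ t).hom := by
  have key : ∀ (y : X) (e : U.hom (fiberPoint ξ t) = y),
      IsLocalHom (X.presheaf.stalkSpecializes (specializes_of_eq e) ≫ U.hom.stalkMap (fiberPoint ξ t)).hom := by
    rintro _ rfl
    erw [TopCat.Presheaf.stalkSpecializes_refl, Category.id_comp]
    infer_instance
  exact key _ (hom_fiberPoint ξ t)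

end Groth.AlgSpEt.StrictLocal
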