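import Groth.Agent.AlgSpEt.Stalks

/-!
# The locus where two sections of a sheaf on the small etale site agree
-/

set_option autoImplicit false
set_option backward.isDefEq.respectTransparency false

universe v' u' u

open CategoryTheory CategoryTheory.Limits AlgebraicGeometry Opposite AlgSp Groth.AlgSpBasic TopologicalSpace

namespace Groth.AlgSpEt

variable {S : Scheme.{u}}

/-- The point of the space under a lift of a field-valued point. -/
theorem ofPt_lift {X : Sp S} {p : FieldPt X} {U : EtOver X} (w : (FieldPt.liftsTo p).obj U) :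
    Points.ofPt U.obj.hom (w.1.left (ctr p)) = Points.mk p := by
  rw [← ofPt_comp_yon w.1 U.obj.hom (ctr p), w.2]
  exact Points.ofPt_toHom p _

/-- A geometric point lifts to every point of an object of the site over it. -/
theorem exists_lift_to {X : Sp S} {p : FieldPt X} (hp : p.IsGeometric) (U : EtOver X) (u : ↥U.obj.left.left)
    (hu : Points.ofPt U.obj.hom u = Points.mk p) :
    ∃ w : (FieldPt.liftsTo p).obj U, w.1.left (ctr p) = u := by
  obtain ⟨t, ht, htu⟩ := exists_lift hp U.obj.hom U.property u hu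
  exact ⟨⟨t, ht⟩, htu⟩

section Locus

variable {A : Type u'} [Category.{v'} A] {FC : A → A → Type*} {CC : A → Type (u + 1)}
  [∀ (X Y : A), FunLike (FC X Y) (CC X) (CC Y)] [ConcreteCategory.{u + 1} A FC]

/-- The locus where two sections agree: the union of the images of the objects on which they restrict equally. -/
def eqLocus {X : Sp S} (F : EtSh X A) (U : EtOver X) (σ τ : ToType (F.obj.obj (op U))) :
    Opens ↥U.obj.left.left :=
  ⟨{u | ∃ (V : EtOver X) (g : V ⟶ U),
      F.obj.map g.op σ = F.obj.map g.op τ ∧ u ∈ Set.range g.hom.left.left}, by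
    refine isOpen_iff_forall_mem_open.2 ?_
    rintro u ⟨V, g, hg, hu⟩
    have := EtOver.etale_left g
    exact ⟨Set.range g.hom.left.left, fun u' hu' => ⟨V, g, hg, hu'⟩,
      g.hom.left.left.isOpenMap.isOpen_range, hu⟩⟩

theorem mem_eqLocus {X : Sp S} {F : EtSh X A} {U : EtOver X} {σ τ : ToType (F.obj.obj (op U))}
    {u : ↥U.obj.left.left} :
    u ∈ eqLocus F U σ τ ↔ ∃ (V : EtOver X) (g : V ⟶ U),
      F.obj.map g.op σ = F.obj.map g.op τ ∧ u ∈ Set.range g.hom.left.left := Iff.rfl

variable [HasColimitsOfSize.{u, u} A] [PreservesFilteredColimitsOfSize.{u, u} (forget A)]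
  (X : Space S) (F : EtSh X.obj A)

/-- Two sections have the same germ at a geometric point iff the point lies in their equality locus. -/
theorem toPresheafFiber_eq_iff_mem {p : FieldPt X.obj} (hp : p.IsGeometric) {U : EtOver X.obj}
    (w : (FieldPt.liftsTo p).obj U) (σ τ : ToType (F.obj.obj (op U))) :
    (ptEt p X.property hp).toPresheafFiber U w F.obj σ = (ptEt p X.property hp).toPresheafFiber U w F.obj τ ↔
      w.1.left (ctr p) ∈ eqLocus F U σ τ := by
  have : IsAlgClosed p.K := hp
  constructor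
  · intro h
    obtain ⟨V, g, v, hv, heq⟩ := ((ptEt p X.property hp).toPresheafFiber_eq_iff' (P := F.obj) U w σ τ).1 h
    refine ⟨V, g, heq, v.1.left (ctr p), ?_⟩
    rw [← hv]
    rfl
  · rintro ⟨V, g, heq, y, hy⟩
    refine ((ptEt p X.property hp).toPresheafFiber_eq_iff' (P := F.obj) U w σ τ).2 ?_
    have := EtOver.etale_left g
    obtain ⟨l, hl, -⟩ := Scheme.exists_fac_of_etale_of_isSepClosed g.hom.left.left w.1.left y hy
    let l' : p.pt ⟶ V.obj.left := Over.homMk l (by
      show l ≫ V.obj.left.hom = p.str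
      rw [← Over.w g.hom.left, ← Category.assoc, hl]
      exact Over.w w.1)
    have hl' : l' ≫ g.hom.left = w.1 := Over.OverMorphism.ext hl
    refine ⟨V, g, ⟨l', ?_⟩, Subtype.ext hl', heq⟩
    rw [← EtOver.w g, ← Category.assoc, ← Functor.map_comp, hl']
    exact w.2

variable [(etTop X.obj).HasSheafCompose (forget A)]

/-- Two sections agree after pulling back along a morphism iff it lands in their equality locus. -/
theorem map_eq_iff_range_subset {U : EtOver X.obj} (σ τ : ToType (F.obj.obj (op U))) {V : EtOver X.obj}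
    (φ : V ⟶ U) :
    F.obj.map φ.op σ = F.obj.map φ.op τ ↔
      Set.range (fun v => φ.hom.left.left v) ⊆ (eqLocus F U σ τ : Set ↥U.obj.left.left) := by
  refine ⟨fun h u hu => ⟨V, φ, h, hu⟩, fun h => ?_⟩
  have loc : ∀ v : ↥V.obj.left.left, ∃ (W : EtOver X.obj) (g : W ⟶ V),
      F.obj.map g.op (F.obj.map φ.op σ) = F.obj.map g.op (F.obj.map φ.op τ) ∧
        v ∈ Set.range g.hom.left.left := by
    intro v
    obtain ⟨p, w, hp, rfl⟩ := exists_geometric_lift V v
    refine (toPresheafFiber_eq_iff_mem X F hp w _ _).1 ?_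
    rw [(ptEt p X.property hp).toPresheafFiber_w_apply,
      (ptEt p X.property hp).toPresheafFiber_w_apply]
    exact (toPresheafFiber_eq_iff_mem X F hp ((FieldPt.liftsTo p).map φ w) σ τ).2 (h ⟨w.1.left (ctr p), rfl⟩)
  choose W g hg hv using loc
  exact Sheaf.isSeparated F V (Sieve.generate (Presieve.ofArrows W g))
    (ofArrows_mem_etTop W g fun e => ⟨e, hv e⟩) _ _ (by
      rintro Z f ⟨Y, a, b, ⟨i⟩, rfl⟩
      rw [op_comp, Functor.map_comp, ConcreteCategory.comp_apply, ConcreteCategory.comp_apply, hg i])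

end Locus

section Germs

variable (X : Space S)

instance preservesFilteredColimits_forget_addCommGrp :
    PreservesFilteredColimitsOfSize.{u, u} (forget AddCommGrpCat.{u + 1}) :=
  preservesFilteredColimitsOfSize_of_univLE.{u + 1, u + 1, u, u} _

instance hasColimitsOfSize_commRing : HasColimitsOfSize.{u, u} CommRingCat.{u + 1} :=
  hasColimitsOfSizeShrink.{u, u, u + 1, u + 1} _

instance preservesFilteredColimits_forget_commRing :
    PreservesFilteredColimitsOfSize.{u, u} (forget CommRingCat.{u + 1}) :=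
  preservesFilteredColimitsOfSize_of_univLE.{u + 1, u + 1, u, u} _

/-- The germ of a section of an abelian sheaf vanishes iff the point lies in the locus where it is zero. -/
theorem stalkEtι_eq_zero_iff (F : AbEt X.obj) {p : FieldPt X.obj} (hp : p.IsGeometric) (N : EtNbhd p)
    (σ : ↥(F.obj.obj (op N.1))) :
    (stalkEtι p F N).hom σ = 0 ↔ N.2.1.left (ctr p) ∈ eqLocus F N.1 σ (0 : ↥(F.obj.obj (op N.1))) := by
  refine Iff.trans ?_ (toPresheafFiber_eq_iff_mem X F hp N.2 σ (0 : ↥(F.obj.obj (op N.1))))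
  exact ⟨fun h => h.trans (map_zero (stalkEtι p F N).hom).symm,
    fun h => h.trans (map_zero (stalkEtι p F N).hom)⟩

/-- Every germ of an abelian sheaf at a geometric point comes from a neighbourhood. -/
theorem exists_stalkEtι_eq (F : AbEt X.obj) {p : FieldPt X.obj} (hp : p.IsGeometric) (s : ↥(stalkEt p F)) :
    ∃ (N : EtNbhd p) (σ : ↥(F.obj.obj (op N.1))), (stalkEtι p F N).hom σ = s := by
  obtain ⟨V, w, σ, h⟩ := (ptEt p X.property hp).toPresheafFiber_jointly_surjective (P := F.obj) s
  exact ⟨⟨V, w⟩, σ, h⟩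

/-- A stalk of an abelian sheaf is nonzero iff a chart point over it is in the support of some section. -/
theorem not_isZero_stalkEt_iff (F : AbEt X.obj) {p : FieldPt X.obj} (hp : p.IsGeometric) :
    ¬ IsZero (stalkEt p F) ↔ ∃ (U : EtOver X.obj) (σ : ↥(F.obj.obj (op U))) (u : ↥U.obj.left.left),
      Points.ofPt U.obj.hom u = Points.mk p ∧ u ∉ eqLocus F U σ (0 : ↥(F.obj.obj (op U))) := by
  rw [AddCommGrpCat.isZero_iff_subsingleton]
  constructor
  · intro h
    by_contra hne
    push Not at hne
    refine h (subsingleton_of_forall_eq 0 fun s => ?_)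
    obtain ⟨N, σ, rfl⟩ := exists_stalkEtι_eq X F hp s
    exact (stalkEtι_eq_zero_iff X F hp N σ).2 (hne N.1 σ _ (ofPt_lift N.2))
  · rintro ⟨U, σ, u, hu, hσ⟩ hsub
    obtain ⟨w, rfl⟩ := exists_lift_to hp U u hu
    exact hσ ((stalkEtι_eq_zero_iff X F hp ⟨U, w⟩ σ).1 (Subsingleton.elim _ _))

/-- A stalk of a sheaf of rings is nonzero iff no neighbourhood has `1 = 0` at the point. -/
theorem nontrivial_stalkEt_iff (O' : EtSh X.obj CommRingCat.{u + 1}) {p : FieldPt X.obj} (hp : p.IsGeometric)
    {U : EtOver X.obj} (u : ↥U.obj.left.left) (hu : Points.ofPt U.obj.hom u = Points.mk p) :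
    Nontrivial ↥(stalkEt p O') ↔
      u ∉ eqLocus O' U (1 : ↥(O'.obj.obj (op U))) (0 : ↥(O'.obj.obj (op U))) := by
  obtain ⟨w, rfl⟩ := exists_lift_to hp U u hu
  let f := (stalkEtι p O' ⟨U, w⟩).hom
  rw [← not_subsingleton_iff_nontrivial, not_iff_not, subsingleton_iff_zero_eq_one.symm]
  refine Iff.trans ?_ (toPresheafFiber_eq_iff_mem X O' hp w
    (1 : ↥(O'.obj.obj (op U))) (0 : ↥(O'.obj.obj (op U))))
  exact ⟨fun h => ((map_one f).trans h.symm).trans (map_zero f).symm,
    fun h => ((map_zero f).symm.trans h.symm).trans (map_one f)⟩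

end Germs

end Groth.AlgSpEt
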