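import Groth.Agent.AlgSpEt.UnivInjBC
import Groth.Agent.AlgSpEt.Support
import Mathlib.CategoryTheory.Sites.Point.Comap
import Mathlib.CategoryTheory.Sites.LocallyBijective

/-!
# Stalks of inverse images, and the essential image of direct images
-/

set_option autoImplicit false
set_option backward.isDefEq.respectTransparency false

universe v' u' u

open CategoryTheory CategoryTheory.Limits AlgebraicGeometry Opposite AlgSp Groth.AlgSpBasic

namespace Groth.AlgSpEt.UI

variable {S : Scheme.{u}}

section Detect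

variable {A : Type u'} [Category.{v'} A] {FC : A → A → Type*} {CC : A → Type (u + 1)}
  [∀ (X Y : A), FunLike (FC X Y) (CC X) (CC Y)] [ConcreteCategory.{u + 1} A FC]
  [HasColimitsOfSize.{u, u} A] [PreservesFilteredColimitsOfSize.{u, u} (forget A)]
  (X : Space S) [(etTop X.obj).HasSheafCompose (forget A)] [(forget A).ReflectsIsomorphisms]

/-- A sheaf map is invertible as soon as, at one geometric point over every point of every chart, it is
bijective on stalks. -/
theorem isIso_of_stalks {F G : EtSh X.obj A} (a : F ⟶ G)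
    (h : ∀ (E : EtOver X.obj) (e : ↥E.obj.left.left), ∃ (p : FieldPt X.obj) (hp : p.IsGeometric)
      (w : (FieldPt.liftsTo p).obj E), w.1.left (ctr p) = e ∧
        Function.Bijective ((ptEt p X.property hp).presheafFiber.map a.hom)) :
    IsIso a := by
  refine (Sheaf.isLocallyBijective_iff_isIso (J := etTop X.obj) a).1
    ⟨⟨fun {E} σ τ hστ => ?_⟩, ⟨fun {E} σ => ?_⟩⟩
  · have loc : ∀ e : ↥E.unop.obj.left.left, ∃ (V : EtOver X.obj) (g : V ⟶ E.unop),
        F.obj.map g.op σ = F.obj.map g.op τ ∧ e ∈ Set.range g.hom.left.left := by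
      intro e
      obtain ⟨p, hp, w, rfl, hb⟩ := h E.unop e
      refine (toPresheafFiber_eq_iff_mem X F hp w σ τ).1 (hb.1 ?_)
      rw [(ptEt p X.property hp).toPresheafFiber_naturality_apply,
        (ptEt p X.property hp).toPresheafFiber_naturality_apply]
      exact congrArg _ hστ
    choose V g hg hv using loc
    exact (etTop X.obj).superset_covering
      ((Sieve.generate_le_iff _ _).2 (Presieve.ofArrows_le_iff.2 fun e => hg e))
      (ofArrows_mem_etTop V g fun e => ⟨e, hv e⟩)
  · have loc : ∀ e : ↥E.obj.left.left, ∃ (V : EtOver X.obj) (g : V ⟶ E),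
        Presheaf.imageSieve a.hom σ g ∧ e ∈ Set.range g.hom.left.left := by
      intro e
      obtain ⟨p, hp, w, rfl, hb⟩ := h E e
      let Φ := ptEt p X.property hp
      obtain ⟨y, hy⟩ := hb.2 (Φ.toPresheafFiber E w G.obj σ)
      obtain ⟨V, s, τ, rfl⟩ := Φ.toPresheafFiber_jointly_surjective (P := F.obj) y
      have hy' : Φ.presheafFiber.map a.hom (Φ.toPresheafFiber V s F.obj τ) = Φ.toPresheafFiber E w G.obj σ := hy
      rw [Φ.toPresheafFiber_naturality_apply] at hy'
      obtain ⟨⟨W, z⟩, pm, qm, -⟩ := IsCofilteredOrEmpty.cone_objs (C := Φ.fiber.Elements)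
        (Functor.elementsMk _ V s) (Functor.elementsMk _ E w)
      let k : W ⟶ V := pm.1
      let l : W ⟶ E := qm.1
      have key : Φ.toPresheafFiber W z G.obj (a.hom.app _ (F.obj.map k.op τ)) =
          Φ.toPresheafFiber W z G.obj (G.obj.map l.op σ) := by
        rw [NatTrans.naturality_apply a.hom k.op τ, Φ.toPresheafFiber_w_apply, Φ.toPresheafFiber_w_apply]
        erw [pm.2, qm.2]
        exact hy'
      obtain ⟨Z, r, v, hv, heq⟩ := (Φ.toPresheafFiber_eq_iff' (P := G.obj) W z _ _).1 key
      refine ⟨Z, r ≫ l, ⟨F.obj.map r.op (F.obj.map k.op τ), ?_⟩, v.1.left (ctr p), ?_⟩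
      · rw [NatTrans.naturality_apply a.hom r.op, heq, op_comp, Functor.map_comp]
        exact (ConcreteCategory.comp_apply _ _ _).symm
      · subst hv
        rw [← show Φ.fiber.map l _ = w from qm.2]
        rfl
    choose V g hg hv using loc
    exact (etTop X.obj).superset_covering
      ((Sieve.generate_le_iff _ _).2 (Presieve.ofArrows_le_iff.2 fun e => hg e))
      (ofArrows_mem_etTop V g fun e => ⟨e, hv e⟩)

end Detect

variable {Z X : Sp S} {i : Z ⟶ X} (hi : Representable i)

/-- Lifts of a point to a base change are lifts of its image. -/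
noncomputable def liftEquiv (z : FieldPt Z) (E : EtOver X) :
    (FieldPt.liftsTo z).obj ((EtOver.bc hi).obj E) ≃ (FieldPt.liftsTo (z.map i)).obj E where
  toFun u := ⟨u.1 ≫ hi.snd E.obj.hom, by
    show (yon S).map (u.1 ≫ hi.snd E.obj.hom) ≫ E.obj.hom = _
    rw [Functor.map_comp, Category.assoc, ← hi.w, ← Category.assoc]
    exact (congrArg (· ≫ i) u.2).trans (FieldPt.toHom_map i z).symm⟩
  invFun w := ⟨hi.lift z.toHom w.1 ((w.2.trans (FieldPt.toHom_map i z)).symm), hi.lift_fst _ _ _⟩
  left_inv u := Subtype.ext (hi.hom_ext ((hi.lift_fst _ _ _).trans u.2.symm) (hi.lift_snd _ _ _))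
  right_inv w := Subtype.ext (hi.lift_snd _ _ _)

theorem liftEquiv_natural (z : FieldPt Z) {E E' : EtOver X} (g : E ⟶ E')
    (u : (FieldPt.liftsTo z).obj ((EtOver.bc hi).obj E)) :
    liftEquiv hi z E' ((FieldPt.liftsTo z).map ((EtOver.bc hi).map g) u) =
      (FieldPt.liftsTo (z.map i)).map g (liftEquiv hi z E u) := by
  refine Subtype.ext ?_
  show (u.1 ≫ (EtOver.bcMap hi g).hom.left) ≫ hi.snd E'.obj.hom = (u.1 ≫ hi.snd E.obj.hom) ≫ g.hom.left
  rw [Category.assoc, Category.assoc, EtOver.bcMap_snd]

variable (hZ : IsAlgSpace Z) (hX : IsAlgSpace X) {z : FieldPt Z} (hz : z.IsGeometric)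
  (A : Type u') [Category.{v'} A] [HasProducts.{u} A]

/-- The direct image of a skyscraper is the skyscraper at the image point. -/
noncomputable def skyIso :
    (ptEt z hZ hz).skyscraperSheafFunctor ⋙ pushEt hi A ≅
      (ptEt (z.map i) hX hz).skyscraperSheafFunctor (A := A) :=
  NatIso.ofComponents (fun M => (fullyFaithfulSheafToPresheaf _ _).preimageIso
    (NatIso.ofComponents
      (fun E => Pi.whiskerEquiv (liftEquiv hi z E.unop) (fun _ => Iso.refl M))
      (fun {E E'} g => by
        refine Pi.hom_ext _ _ fun w => ?_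
        obtain ⟨u, rfl⟩ := (liftEquiv hi z E'.unop).surjective w
        simp [Pi.whiskerEquiv, GrothendieckTopology.Point.skyscraperSheafFunctor,
          GrothendieckTopology.Point.skyscraperPresheafFunctor, ptEt, ← liftEquiv_natural])))
    (fun {M N} f => by
      apply Sheaf.hom_ext
      ext E
      refine Pi.hom_ext _ _ fun w => ?_
      simp [Pi.whiskerEquiv, GrothendieckTopology.Point.skyscraperSheafFunctor,
        GrothendieckTopology.Point.skyscraperPresheafFunctor, ptEt])

variable [HasColimitsOfSize.{u, u} A]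
  [((EtOver.bc hi).sheafPushforwardContinuous A (etTop X) (etTop Z)).IsRightAdjoint]

/-- The stalk of an inverse image is the stalk at the image point. -/
noncomputable def pullStalkIso :
    (ptEt (z.map i) hX hz).sheafFiber ≅ pullEt hi A ⋙ (ptEt z hZ hz).sheafFiber :=
  (conjugateIsoEquiv ((pullPushAdjEt hi A).comp (ptEt z hZ hz).skyscraperSheafAdjunction)
    (ptEt (z.map i) hX hz).skyscraperSheafAdjunction).symm (skyIso hi hZ hX hz A)

section EssImage

variable {Z X : Space S} {i : Z.obj ⟶ X.obj} (hi : RepWith @IsIntegralHom i) (hu : RepWith @UniversallyInjective i)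

omit hu in
/-- The points of a chart over the image are those under its base change. -/
theorem mem_range_snd_iff (E : EtOver X.obj) (e : ↥E.obj.left.left) :
    e ∈ Set.range (hi.1.snd E.obj.hom).left ↔ Points.ofPt E.obj.hom e ∈ Set.range (Points.map i) := by
  constructor
  · rintro ⟨w, hw⟩
    exact ⟨Points.ofPt (hi.1.fst E.obj.hom) w, (map_eq_ofPt_iff (hi.1.isPullback E.obj.hom) _ e).2 ⟨w, rfl, hw⟩⟩
  · rintro ⟨x, hx⟩
    obtain ⟨w, -, hw⟩ := (map_eq_ofPt_iff (hi.1.isPullback E.obj.hom) x e).1 hx
    exact ⟨w, hw⟩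

omit hu in
/-- The base change of a chart missing the image is empty. -/
theorem isEmpty_bc_of_disjoint (E : EtOver X.obj)
    (h : Disjoint (Set.range (Points.map E.obj.hom)) (Set.range (Points.map i))) :
    IsEmpty ↥((EtOver.bc hi.1).obj E).obj.left.left := by
  refine ⟨fun w => Set.disjoint_left.1 h ⟨Points.ofScheme E.obj.left ((hi.1.snd E.obj.hom).left w), ?_⟩
    ((mem_range_snd_iff hi E _).1 ⟨w, rfl⟩)⟩
  exact (ofPt_eq_map _ _).symm

omit hu in
/-- The empty sieve covers an object without points. -/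
theorem bot_mem_of_isEmpty {X : Sp S} (E : EtOver X) [IsEmpty ↥E.obj.left.left] : (⊥ : Sieve E) ∈ etTop X E := by
  refine (etTop X).superset_covering ((Sieve.generate_le_iff _ _).2 ?_)
    (ofArrows_mem_etTop (fun j : PEmpty.{1} => (j.elim : EtOver X)) (fun j => j.elim) fun e => isEmptyElim e)
  rintro W g ⟨j⟩
  exact j.elim

variable {A : Type u'} [Category.{v'} A] {FC : A → A → Type*} {CC : A → Type (u + 1)}
  [∀ (X Y : A), FunLike (FC X Y) (CC X) (CC Y)] [ConcreteCategory.{u + 1} A FC]
  [HasColimitsOfSize.{u, u} A] [PreservesFilteredColimitsOfSize.{u, u} (forget A)] [HasProducts.{u} A]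
  [(etTop X.obj).HasSheafCompose (forget A)] [(forget A).ReflectsIsomorphisms]
  [((EtOver.bc hi.1).sheafPushforwardContinuous A (etTop X.obj) (etTop Z.obj)).IsRightAdjoint]
  [PreservesLimitsOfShape (Discrete PEmpty.{1}) (forget A)]

omit hu in
/-- Direct images have terminal values on charts missing the image. -/
theorem isTerminal_of_essImage {G : EtSh X.obj A} (hG : (pushEt hi.1 A).essImage G) (E : EtOver X.obj)
    (h : Disjoint (Set.range (Points.map E.obj.hom)) (Set.range (Points.map i))) :
    Nonempty (IsTerminal (G.obj.obj (op E))) := by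
  obtain ⟨F, ⟨e⟩⟩ := hG
  have := isEmpty_bc_of_disjoint hi E h
  exact ⟨IsTerminal.ofIso (Sheaf.isTerminalOfBotCover F ((EtOver.bc hi.1).obj E) (bot_mem_of_isEmpty _))
    (((sheafToPresheaf _ _).mapIso e).app (op E))⟩

include hu in
/-- A sheaf with trivial values on charts missing the image is a direct image. -/
theorem essImage_of_trivial {G : EtSh X.obj A}
    (hG : ∀ E : EtOver X.obj, Disjoint (Set.range (Points.map E.obj.hom)) (Set.range (Points.map i)) →
      Subsingleton (ToType (G.obj.obj (op E))) ∧ Nonempty (ToType (G.obj.obj (op E)))) :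
    (pushEt hi.1 A).essImage G := by
  have := isCoverDense_bc hi hu X.property
  have := isLocallyFull_bc hi hu
  have : (pushEt hi.1 A).Full := inferInstance
  have : (pushEt hi.1 A).Faithful := inferInstance
  let adj := pullPushAdjEt hi.1 A
  have : IsIso adj.counit := inferInstance
  let η := adj.unit.app G
  have hpull : IsIso ((pullEt hi.1 A).map η) :=
    IsIso.of_isIso_fac_right (h := 𝟙 _) (adj.left_triangle_components G)
  suffices IsIso η from ⟨(pullEt hi.1 A).obj G, ⟨(asIso η).symm⟩⟩
  refine isIso_of_stalks X η fun E e => ?_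
  by_cases he : e ∈ Set.range (hi.1.snd E.obj.hom).left
  · obtain ⟨w, hw⟩ := he
    obtain ⟨z, l, hz, hl⟩ := exists_geometric_lift ((EtOver.bc hi.1).obj E) w
    refine ⟨z.map i, hz, liftEquiv hi.1 z E l, ?_, ?_⟩
    · show (hi.1.snd E.obj.hom).left (l.1.left (ctr z)) = e
      rw [hl]
      exact hw
    · have : IsIso ((ptEt z Z.property hz).sheafFiber.map ((pullEt hi.1 A).map η)) := inferInstance
      have : IsIso ((ptEt (z.map i) X.property hz).sheafFiber.map η) :=
        (NatIso.isIso_map_iff (pullStalkIso hi.1 Z.property X.property hz A) η).2 this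
      exact ConcreteCategory.bijective_of_isIso ((ptEt (z.map i) X.property hz).sheafFiber.map η)
  · obtain ⟨p, w, hp, hw⟩ := exists_geometric_lift E e
    refine ⟨p, hp, w, hw, ?_⟩
    have : IsIntegralHom (hi.1.snd E.obj.hom).left := hi.2 E.obj.hom _ _ (hi.1.isPullback E.obj.hom)
    let Φ := ptEt p X.property hp
    -- every neighbourhood is refined by one missing the image
    have key : ∀ (V : EtOver X.obj) (v : Φ.fiber.obj V), ∃ (V' : EtOver X.obj) (g : V' ⟶ V)
        (v' : Φ.fiber.obj V'), Φ.fiber.map g v' = v ∧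
          Disjoint (Set.range (Points.map V'.obj.hom)) (Set.range (Points.map i)) := by
      intro V v
      have : IsIntegralHom (hi.1.snd V.obj.hom).left := hi.2 V.obj.hom _ _ (hi.1.isPullback V.obj.hom)
      let O : V.obj.left.left.Opens := ⟨(Set.range (hi.1.snd V.obj.hom).left)ᶜ,
        ((hi.1.snd V.obj.hom).left.isClosedMap.isClosed_range).isOpen_compl⟩
      let o : Over.mk (O.ι ≫ V.obj.left.hom) ⟶ V.obj.left := Over.homMk O.ι rfl
      let V' : EtOver X.obj := EtOver.mk ((yon S).map o ≫ V.obj.hom)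
        ((repWith_isMultiplicative (S := S) @Etale).comp_mem _ _
          ((repWith_yon_map_iff _ _).2 (inferInstanceAs (Etale O.ι))) V.property)
      have hv : v.1.left (ctr p) ∈ O := fun hv' => he ((mem_range_snd_iff hi E e).2 (by
        have h1 := (mem_range_snd_iff hi V _).1 hv'
        rwa [ofPt_lift v, ← ofPt_lift w, hw] at h1))
      have h2 : Set.range v.1.left ⊆ Set.range O.ι := by
        rintro _ ⟨y, rfl⟩
        rw [Scheme.Opens.range_ι]
        obtain rfl : y = ctr p := Subsingleton.elim (α := ↥(Spec (CommRingCat.of p.K))) _ _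
        exact hv
      let l : p.pt ⟶ V'.obj.left := Over.homMk (IsOpenImmersion.lift O.ι v.1.left h2) (by
        show IsOpenImmersion.lift O.ι v.1.left h2 ≫ O.ι ≫ V.obj.left.hom = p.str
        rw [IsOpenImmersion.lift_fac_assoc]
        exact Over.w v.1)
      have hl : l ≫ o = v.1 := Over.OverMorphism.ext (IsOpenImmersion.lift_fac _ _ _)
      refine ⟨V', EtOver.homMk o rfl, ⟨l, ?_⟩, Subtype.ext hl, Set.disjoint_left.2 ?_⟩
      · show (yon S).map l ≫ (yon S).map o ≫ V.obj.hom = p.toHom
        rw [← Category.assoc, ← Functor.map_comp, hl]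
        exact v.2
      · rintro _ ⟨x, rfl⟩ hx
        obtain ⟨t, rfl⟩ := (Points.schemeEquiv V'.obj.left).surjective x
        have h3 : Points.ofPt V.obj.hom (o.left t) ∈ Set.range (Points.map i) := by
          rw [← ofPt_comp_yon]
          exact (ofPt_eq_map _ t).symm ▸ hx
        exact t.2 ((mem_range_snd_iff hi V _).2 h3)
    constructor
    · intro x y hxy
      obtain ⟨V₁, v₁, a, rfl⟩ := Φ.toPresheafFiber_jointly_surjective (P := G.obj) x
      obtain ⟨V₂, v₂, b, rfl⟩ := Φ.toPresheafFiber_jointly_surjective (P := G.obj) y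
      obtain ⟨⟨V, v⟩, g₁, g₂, -⟩ := IsCofilteredOrEmpty.cone_objs (C := Φ.fiber.Elements)
        (Functor.elementsMk _ V₁ v₁) (Functor.elementsMk _ V₂ v₂)
      obtain ⟨V', g, v', hv, hdis⟩ := key V v
      have c₁ : Φ.fiber.map (g ≫ g₁.1) v' = v₁ := by
        rw [Functor.map_comp]; exact (congrArg (Φ.fiber.map g₁.1) hv).trans g₁.2
      have c₂ : Φ.fiber.map (g ≫ g₂.1) v' = v₂ := by
        rw [Functor.map_comp]; exact (congrArg (Φ.fiber.map g₂.1) hv).trans g₂.2
      rw [← c₁, ← c₂, ← Φ.toPresheafFiber_w_apply, ← Φ.toPresheafFiber_w_apply]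
      exact congrArg _ ((hG V' hdis).1.elim _ _)
    · intro y
      obtain ⟨V, v, b, rfl⟩ := Φ.toPresheafFiber_jointly_surjective (P := ((pushEt hi.1 A).obj _).obj) y
      obtain ⟨V', g, v', hv, hdis⟩ := key V v
      obtain ⟨a⟩ := (hG V' hdis).2
      refine ⟨Φ.toPresheafFiber V' v' G.obj a, ?_⟩
      refine (Φ.toPresheafFiber_naturality_apply η.hom V' v' a).trans ?_
      rw [← hv]
      refine Eq.trans ?_ (Φ.toPresheafFiber_w_apply g v' _ b)
      obtain ⟨T⟩ := isTerminal_of_essImage hi (G := (pushEt hi.1 A).obj ((pullEt hi.1 A).obj G))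
        ((pushEt hi.1 A).obj_mem_essImage _) V' hdis
      refine congrArg _ ?_
      have hT : IsTerminal ((forget A).obj _) := IsTerminal.isTerminalObj (forget A) _ T
      exact ((Types.isTerminalEquivUnique _ hT).uniq _).trans ((Types.isTerminalEquivUnique _ hT).uniq _).symm

end EssImage

end Groth.AlgSpEt.UI
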